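/-
Stabilisers and orbits in the representation on 122760 cosets.
-/
import Cfsg.Agent.Lib.CosetEnum.Orbit
import Cfsg.Agent.Lib.CosetEnum.ONChain.Orb
import Cfsg.Agent.Lib.CosetEnum.OrbitChunk

set_option autoImplicit false
set_option maxRecDepth 1000000

namespace CfsgLib.CosetEnum.ONChain

open CfsgLib.CosetEnum CfsgLib.CosetEnum.ON122760

theorem lab0_ok : allFrom 0 2000 (fun d => Nat.blt (orbLab orb d) 5) = true := by decide +kernel

theorem lab1_ok : allFrom 2000 2000 (fun d => Nat.blt (orbLab orb d) 5) = true := by decide +kernel

theorem lab2_ok : allFrom 4000 2000 (fun d => Nat.blt (orbLab orb d) 5) = true := by decide +kernel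

theorem lab3_ok : allFrom 6000 2000 (fun d => Nat.blt (orbLab orb d) 5) = true := by decide +kernel

theorem lab4_ok : allFrom 8000 2000 (fun d => Nat.blt (orbLab orb d) 5) = true := by decide +kernel

theorem lab5_ok : allFrom 10000 2000 (fun d => Nat.blt (orbLab orb d) 5) = true := by decide +kernel

theorem lab6_ok : allFrom 12000 2000 (fun d => Nat.blt (orbLab orb d) 5) = true := by decide +kernel

theorem lab7_ok : allFrom 14000 2000 (fun d => Nat.blt (orbLab orb d) 5) = true := by decide +kernel

theorem lab8_ok : allFrom 16000 2000 (fun d => Nat.blt (orbLab orb d) 5) = true := by decide +kernel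

theorem lab9_ok : allFrom 18000 2000 (fun d => Nat.blt (orbLab orb d) 5) = true := by decide +kernel

theorem lab10_ok : allFrom 20000 2000 (fun d => Nat.blt (orbLab orb d) 5) = true := by decide +kernel

theorem lab11_ok : allFrom 22000 2000 (fun d => Nat.blt (orbLab orb d) 5) = true := by decide +kernel

theorem lab12_ok : allFrom 24000 2000 (fun d => Nat.blt (orbLab orb d) 5) = true := by decide +kernel

theorem lab13_ok : allFrom 26000 2000 (fun d => Nat.blt (orbLab orb d) 5) = true := by decide +kernel

theorem lab14_ok : allFrom 28000 2000 (fun d => Nat.blt (orbLab orb d) 5) = true := by decide +kernel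

theorem lab15_ok : allFrom 30000 2000 (fun d => Nat.blt (orbLab orb d) 5) = true := by decide +kernel

theorem lab16_ok : allFrom 32000 2000 (fun d => Nat.blt (orbLab orb d) 5) = true := by decide +kernel

theorem lab17_ok : allFrom 34000 2000 (fun d => Nat.blt (orbLab orb d) 5) = true := by decide +kernel

theorem lab18_ok : allFrom 36000 2000 (fun d => Nat.blt (orbLab orb d) 5) = true := by decide +kernel

theorem lab19_ok : allFrom 38000 2000 (fun d => Nat.blt (orbLab orb d) 5) = true := by decide +kernel

theorem lab20_ok : allFrom 40000 2000 (fun d => Nat.blt (orbLab orb d) 5) = true := by decide +kernel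

theorem lab21_ok : allFrom 42000 2000 (fun d => Nat.blt (orbLab orb d) 5) = true := by decide +kernel

theorem lab22_ok : allFrom 44000 2000 (fun d => Nat.blt (orbLab orb d) 5) = true := by decide +kernel

theorem lab23_ok : allFrom 46000 2000 (fun d => Nat.blt (orbLab orb d) 5) = true := by decide +kernel

theorem lab24_ok : allFrom 48000 2000 (fun d => Nat.blt (orbLab orb d) 5) = true := by decide +kernel

theorem lab25_ok : allFrom 50000 2000 (fun d => Nat.blt (orbLab orb d) 5) = true := by decide +kernel

theorem lab26_ok : allFrom 52000 2000 (fun d => Nat.blt (orbLab orb d) 5) = true := by decide +kernel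

theorem lab27_ok : allFrom 54000 2000 (fun d => Nat.blt (orbLab orb d) 5) = true := by decide +kernel

theorem lab28_ok : allFrom 56000 2000 (fun d => Nat.blt (orbLab orb d) 5) = true := by decide +kernel

theorem lab29_ok : allFrom 58000 2000 (fun d => Nat.blt (orbLab orb d) 5) = true := by decide +kernel

theorem lab30_ok : allFrom 60000 2000 (fun d => Nat.blt (orbLab orb d) 5) = true := by decide +kernel

theorem lab31_ok : allFrom 62000 2000 (fun d => Nat.blt (orbLab orb d) 5) = true := by decide +kernel

theorem lab32_ok : allFrom 64000 2000 (fun d => Nat.blt (orbLab orb d) 5) = true := by decide +kernel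

theorem lab33_ok : allFrom 66000 2000 (fun d => Nat.blt (orbLab orb d) 5) = true := by decide +kernel

theorem lab34_ok : allFrom 68000 2000 (fun d => Nat.blt (orbLab orb d) 5) = true := by decide +kernel

theorem lab35_ok : allFrom 70000 2000 (fun d => Nat.blt (orbLab orb d) 5) = true := by decide +kernel

theorem lab36_ok : allFrom 72000 2000 (fun d => Nat.blt (orbLab orb d) 5) = true := by decide +kernel

theorem lab37_ok : allFrom 74000 2000 (fun d => Nat.blt (orbLab orb d) 5) = true := by decide +kernel

theorem lab38_ok : allFrom 76000 2000 (fun d => Nat.blt (orbLab orb d) 5) = true := by decide +kernel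

theorem lab39_ok : allFrom 78000 2000 (fun d => Nat.blt (orbLab orb d) 5) = true := by decide +kernel

theorem lab40_ok : allFrom 80000 2000 (fun d => Nat.blt (orbLab orb d) 5) = true := by decide +kernel

theorem lab41_ok : allFrom 82000 2000 (fun d => Nat.blt (orbLab orb d) 5) = true := by decide +kernel

theorem lab42_ok : allFrom 84000 2000 (fun d => Nat.blt (orbLab orb d) 5) = true := by decide +kernel

theorem lab43_ok : allFrom 86000 2000 (fun d => Nat.blt (orbLab orb d) 5) = true := by decide +kernel

theorem lab44_ok : allFrom 88000 2000 (fun d => Nat.blt (orbLab orb d) 5) = true := by decide +kernel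

theorem lab45_ok : allFrom 90000 2000 (fun d => Nat.blt (orbLab orb d) 5) = true := by decide +kernel

theorem lab46_ok : allFrom 92000 2000 (fun d => Nat.blt (orbLab orb d) 5) = true := by decide +kernel

theorem lab47_ok : allFrom 94000 2000 (fun d => Nat.blt (orbLab orb d) 5) = true := by decide +kernel

theorem lab48_ok : allFrom 96000 2000 (fun d => Nat.blt (orbLab orb d) 5) = true := by decide +kernel

theorem lab49_ok : allFrom 98000 2000 (fun d => Nat.blt (orbLab orb d) 5) = true := by decide +kernel

theorem lab50_ok : allFrom 100000 2000 (fun d => Nat.blt (orbLab orb d) 5) = true := by decide +kernel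

theorem lab51_ok : allFrom 102000 2000 (fun d => Nat.blt (orbLab orb d) 5) = true := by decide +kernel

theorem lab52_ok : allFrom 104000 2000 (fun d => Nat.blt (orbLab orb d) 5) = true := by decide +kernel

theorem lab53_ok : allFrom 106000 2000 (fun d => Nat.blt (orbLab orb d) 5) = true := by decide +kernel

theorem lab54_ok : allFrom 108000 2000 (fun d => Nat.blt (orbLab orb d) 5) = true := by decide +kernel

theorem lab55_ok : allFrom 110000 2000 (fun d => Nat.blt (orbLab orb d) 5) = true := by decide +kernel

theorem lab56_ok : allFrom 112000 2000 (fun d => Nat.blt (orbLab orb d) 5) = true := by decide +kernel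

theorem lab57_ok : allFrom 114000 2000 (fun d => Nat.blt (orbLab orb d) 5) = true := by decide +kernel

theorem lab58_ok : allFrom 116000 2000 (fun d => Nat.blt (orbLab orb d) 5) = true := by decide +kernel

theorem lab59_ok : allFrom 118000 2000 (fun d => Nat.blt (orbLab orb d) 5) = true := by decide +kernel

theorem lab60_ok : allFrom 120000 2000 (fun d => Nat.blt (orbLab orb d) 5) = true := by decide +kernel

theorem lab61_ok : allFrom 122000 760 (fun d => Nat.blt (orbLab orb d) 5) = true := by decide +kernel

theorem cnt0_0 : countFrom orb 0 0 2000 = 1 := by decide +kernel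

theorem cnt0_1 : countFrom orb 0 2000 2000 = 0 := by decide +kernel

theorem cnt0_2 : countFrom orb 0 4000 2000 = 0 := by decide +kernel

theorem cnt0_3 : countFrom orb 0 6000 2000 = 0 := by decide +kernel

theorem cnt0_4 : countFrom orb 0 8000 2000 = 0 := by decide +kernel

theorem cnt0_5 : countFrom orb 0 10000 2000 = 0 := by decide +kernel

theorem cnt0_6 : countFrom orb 0 12000 2000 = 0 := by decide +kernel

theorem cnt0_7 : countFrom orb 0 14000 2000 = 0 := by decide +kernel

theorem cnt0_8 : countFrom orb 0 16000 2000 = 0 := by decide +kernel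

theorem cnt0_9 : countFrom orb 0 18000 2000 = 0 := by decide +kernel

theorem cnt0_10 : countFrom orb 0 20000 2000 = 0 := by decide +kernel

theorem cnt0_11 : countFrom orb 0 22000 2000 = 0 := by decide +kernel

theorem cnt0_12 : countFrom orb 0 24000 2000 = 0 := by decide +kernel

theorem cnt0_13 : countFrom orb 0 26000 2000 = 0 := by decide +kernel

theorem cnt0_14 : countFrom orb 0 28000 2000 = 0 := by decide +kernel

theorem cnt0_15 : countFrom orb 0 30000 2000 = 0 := by decide +kernel

theorem cnt0_16 : countFrom orb 0 32000 2000 = 0 := by decide +kernel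

theorem cnt0_17 : countFrom orb 0 34000 2000 = 0 := by decide +kernel

theorem cnt0_18 : countFrom orb 0 36000 2000 = 0 := by decide +kernel

theorem cnt0_19 : countFrom orb 0 38000 2000 = 0 := by decide +kernel

theorem cnt0_20 : countFrom orb 0 40000 2000 = 0 := by decide +kernel

theorem cnt0_21 : countFrom orb 0 42000 2000 = 0 := by decide +kernel

theorem cnt0_22 : countFrom orb 0 44000 2000 = 0 := by decide +kernel

theorem cnt0_23 : countFrom orb 0 46000 2000 = 0 := by decide +kernel

theorem cnt0_24 : countFrom orb 0 48000 2000 = 0 := by decide +kernel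

theorem cnt0_25 : countFrom orb 0 50000 2000 = 0 := by decide +kernel

theorem cnt0_26 : countFrom orb 0 52000 2000 = 0 := by decide +kernel

theorem cnt0_27 : countFrom orb 0 54000 2000 = 0 := by decide +kernel

theorem cnt0_28 : countFrom orb 0 56000 2000 = 0 := by decide +kernel

theorem cnt0_29 : countFrom orb 0 58000 2000 = 0 := by decide +kernel

theorem cnt0_30 : countFrom orb 0 60000 2000 = 0 := by decide +kernel

theorem cnt0_31 : countFrom orb 0 62000 2000 = 0 := by decide +kernel

theorem cnt0_32 : countFrom orb 0 64000 2000 = 0 := by decide +kernel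

theorem cnt0_33 : countFrom orb 0 66000 2000 = 0 := by decide +kernel

theorem cnt0_34 : countFrom orb 0 68000 2000 = 0 := by decide +kernel

theorem cnt0_35 : countFrom orb 0 70000 2000 = 0 := by decide +kernel

theorem cnt0_36 : countFrom orb 0 72000 2000 = 0 := by decide +kernel

theorem cnt0_37 : countFrom orb 0 74000 2000 = 0 := by decide +kernel

theorem cnt0_38 : countFrom orb 0 76000 2000 = 0 := by decide +kernel

theorem cnt0_39 : countFrom orb 0 78000 2000 = 0 := by decide +kernel

theorem cnt0_40 : countFrom orb 0 80000 2000 = 0 := by decide +kernel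

theorem cnt0_41 : countFrom orb 0 82000 2000 = 0 := by decide +kernel

theorem cnt0_42 : countFrom orb 0 84000 2000 = 0 := by decide +kernel

theorem cnt0_43 : countFrom orb 0 86000 2000 = 0 := by decide +kernel

theorem cnt0_44 : countFrom orb 0 88000 2000 = 0 := by decide +kernel

theorem cnt0_45 : countFrom orb 0 90000 2000 = 0 := by decide +kernel

theorem cnt0_46 : countFrom orb 0 92000 2000 = 0 := by decide +kernel

theorem cnt0_47 : countFrom orb 0 94000 2000 = 0 := by decide +kernel

theorem cnt0_48 : countFrom orb 0 96000 2000 = 0 := by decide +kernel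

theorem cnt0_49 : countFrom orb 0 98000 2000 = 0 := by decide +kernel

theorem cnt0_50 : countFrom orb 0 100000 2000 = 0 := by decide +kernel

theorem cnt0_51 : countFrom orb 0 102000 2000 = 0 := by decide +kernel

theorem cnt0_52 : countFrom orb 0 104000 2000 = 0 := by decide +kernel

theorem cnt0_53 : countFrom orb 0 106000 2000 = 0 := by decide +kernel

theorem cnt0_54 : countFrom orb 0 108000 2000 = 0 := by decide +kernel

theorem cnt0_55 : countFrom orb 0 110000 2000 = 0 := by decide +kernel

theorem cnt0_56 : countFrom orb 0 112000 2000 = 0 := by decide +kernel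

theorem cnt0_57 : countFrom orb 0 114000 2000 = 0 := by decide +kernel

theorem cnt0_58 : countFrom orb 0 116000 2000 = 0 := by decide +kernel

theorem cnt0_59 : countFrom orb 0 118000 2000 = 0 := by decide +kernel

theorem cnt0_60 : countFrom orb 0 120000 2000 = 0 := by decide +kernel

theorem cnt0_61 : countFrom orb 0 122000 760 = 0 := by decide +kernel

theorem cnt1_0 : countFrom orb 1 0 2000 = 825 := by decide +kernel

theorem cnt1_1 : countFrom orb 1 2000 2000 = 889 := by decide +kernel

theorem cnt1_2 : countFrom orb 1 4000 2000 = 869 := by decide +kernel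

theorem cnt1_3 : countFrom orb 1 6000 2000 = 835 := by decide +kernel

theorem cnt1_4 : countFrom orb 1 8000 2000 = 927 := by decide +kernel

theorem cnt1_5 : countFrom orb 1 10000 2000 = 945 := by decide +kernel

theorem cnt1_6 : countFrom orb 1 12000 2000 = 965 := by decide +kernel

theorem cnt1_7 : countFrom orb 1 14000 2000 = 811 := by decide +kernel

theorem cnt1_8 : countFrom orb 1 16000 2000 = 845 := by decide +kernel

theorem cnt1_9 : countFrom orb 1 18000 2000 = 883 := by decide +kernel

theorem cnt1_10 : countFrom orb 1 20000 2000 = 794 := by decide +kernel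

theorem cnt1_11 : countFrom orb 1 22000 2000 = 914 := by decide +kernel

theorem cnt1_12 : countFrom orb 1 24000 2000 = 1114 := by decide +kernel

theorem cnt1_13 : countFrom orb 1 26000 2000 = 780 := by decide +kernel

theorem cnt1_14 : countFrom orb 1 28000 2000 = 927 := by decide +kernel

theorem cnt1_15 : countFrom orb 1 30000 2000 = 918 := by decide +kernel

theorem cnt1_16 : countFrom orb 1 32000 2000 = 993 := by decide +kernel

theorem cnt1_17 : countFrom orb 1 34000 2000 = 823 := by decide +kernel

theorem cnt1_18 : countFrom orb 1 36000 2000 = 803 := by decide +kernel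

theorem cnt1_19 : countFrom orb 1 38000 2000 = 871 := by decide +kernel

theorem cnt1_20 : countFrom orb 1 40000 2000 = 869 := by decide +kernel

theorem cnt1_21 : countFrom orb 1 42000 2000 = 905 := by decide +kernel

theorem cnt1_22 : countFrom orb 1 44000 2000 = 917 := by decide +kernel

theorem cnt1_23 : countFrom orb 1 46000 2000 = 815 := by decide +kernel

theorem cnt1_24 : countFrom orb 1 48000 2000 = 829 := by decide +kernel

theorem cnt1_25 : countFrom orb 1 50000 2000 = 977 := by decide +kernel

theorem cnt1_26 : countFrom orb 1 52000 2000 = 991 := by decide +kernel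

theorem cnt1_27 : countFrom orb 1 54000 2000 = 1067 := by decide +kernel

theorem cnt1_28 : countFrom orb 1 56000 2000 = 911 := by decide +kernel

theorem cnt1_29 : countFrom orb 1 58000 2000 = 880 := by decide +kernel

theorem cnt1_30 : countFrom orb 1 60000 2000 = 973 := by decide +kernel

theorem cnt1_31 : countFrom orb 1 62000 2000 = 856 := by decide +kernel

theorem cnt1_32 : countFrom orb 1 64000 2000 = 972 := by decide +kernel

theorem cnt1_33 : countFrom orb 1 66000 2000 = 999 := by decide +kernel

theorem cnt1_34 : countFrom orb 1 68000 2000 = 1045 := by decide +kernel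

theorem cnt1_35 : countFrom orb 1 70000 2000 = 923 := by decide +kernel

theorem cnt1_36 : countFrom orb 1 72000 2000 = 889 := by decide +kernel

theorem cnt1_37 : countFrom orb 1 74000 2000 = 906 := by decide +kernel

theorem cnt1_38 : countFrom orb 1 76000 2000 = 916 := by decide +kernel

theorem cnt1_39 : countFrom orb 1 78000 2000 = 875 := by decide +kernel

theorem cnt1_40 : countFrom orb 1 80000 2000 = 869 := by decide +kernel

theorem cnt1_41 : countFrom orb 1 82000 2000 = 1005 := by decide +kernel

theorem cnt1_42 : countFrom orb 1 84000 2000 = 1028 := by decide +kernel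

theorem cnt1_43 : countFrom orb 1 86000 2000 = 998 := by decide +kernel

theorem cnt1_44 : countFrom orb 1 88000 2000 = 873 := by decide +kernel

theorem cnt1_45 : countFrom orb 1 90000 2000 = 992 := by decide +kernel

theorem cnt1_46 : countFrom orb 1 92000 2000 = 1060 := by decide +kernel

theorem cnt1_47 : countFrom orb 1 94000 2000 = 1031 := by decide +kernel

theorem cnt1_48 : countFrom orb 1 96000 2000 = 1149 := by decide +kernel

theorem cnt1_49 : countFrom orb 1 98000 2000 = 976 := by decide +kernel

theorem cnt1_50 : countFrom orb 1 100000 2000 = 990 := by decide +kernel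

theorem cnt1_51 : countFrom orb 1 102000 2000 = 1037 := by decide +kernel

theorem cnt1_52 : countFrom orb 1 104000 2000 = 1071 := by decide +kernel

theorem cnt1_53 : countFrom orb 1 106000 2000 = 1062 := by decide +kernel

theorem cnt1_54 : countFrom orb 1 108000 2000 = 1126 := by decide +kernel

theorem cnt1_55 : countFrom orb 1 110000 2000 = 977 := by decide +kernel

theorem cnt1_56 : countFrom orb 1 112000 2000 = 1046 := by decide +kernel

theorem cnt1_57 : countFrom orb 1 114000 2000 = 1061 := by decide +kernel

theorem cnt1_58 : countFrom orb 1 116000 2000 = 1108 := by decide +kernel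

theorem cnt1_59 : countFrom orb 1 118000 2000 = 1173 := by decide +kernel

theorem cnt1_60 : countFrom orb 1 120000 2000 = 1271 := by decide +kernel

theorem cnt1_61 : countFrom orb 1 122000 760 = 504 := by decide +kernel

theorem cnt2_0 : countFrom orb 2 0 2000 = 714 := by decide +kernel

theorem cnt2_1 : countFrom orb 2 2000 2000 = 788 := by decide +kernel

theorem cnt2_2 : countFrom orb 2 4000 2000 = 896 := by decide +kernel

theorem cnt2_3 : countFrom orb 2 6000 2000 = 934 := by decide +kernel

theorem cnt2_4 : countFrom orb 2 8000 2000 = 902 := by decide +kernel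

theorem cnt2_5 : countFrom orb 2 10000 2000 = 800 := by decide +kernel

theorem cnt2_6 : countFrom orb 2 12000 2000 = 915 := by decide +kernel

theorem cnt2_7 : countFrom orb 2 14000 2000 = 962 := by decide +kernel

theorem cnt2_8 : countFrom orb 2 16000 2000 = 942 := by decide +kernel

theorem cnt2_9 : countFrom orb 2 18000 2000 = 898 := by decide +kernel

theorem cnt2_10 : countFrom orb 2 20000 2000 = 1019 := by decide +kernel

theorem cnt2_11 : countFrom orb 2 22000 2000 = 932 := by decide +kernel

theorem cnt2_12 : countFrom orb 2 24000 2000 = 676 := by decide +kernel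

theorem cnt2_13 : countFrom orb 2 26000 2000 = 1028 := by decide +kernel

theorem cnt2_14 : countFrom orb 2 28000 2000 = 902 := by decide +kernel

theorem cnt2_15 : countFrom orb 2 30000 2000 = 955 := by decide +kernel

theorem cnt2_16 : countFrom orb 2 32000 2000 = 789 := by decide +kernel

theorem cnt2_17 : countFrom orb 2 34000 2000 = 939 := by decide +kernel

theorem cnt2_18 : countFrom orb 2 36000 2000 = 977 := by decide +kernel

theorem cnt2_19 : countFrom orb 2 38000 2000 = 912 := by decide +kernel

theorem cnt2_20 : countFrom orb 2 40000 2000 = 911 := by decide +kernel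

theorem cnt2_21 : countFrom orb 2 42000 2000 = 891 := by decide +kernel

theorem cnt2_22 : countFrom orb 2 44000 2000 = 881 := by decide +kernel

theorem cnt2_23 : countFrom orb 2 46000 2000 = 973 := by decide +kernel

theorem cnt2_24 : countFrom orb 2 48000 2000 = 1006 := by decide +kernel

theorem cnt2_25 : countFrom orb 2 50000 2000 = 864 := by decide +kernel

theorem cnt2_26 : countFrom orb 2 52000 2000 = 809 := by decide +kernel

theorem cnt2_27 : countFrom orb 2 54000 2000 = 731 := by decide +kernel

theorem cnt2_28 : countFrom orb 2 56000 2000 = 830 := by decide +kernel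

theorem cnt2_29 : countFrom orb 2 58000 2000 = 943 := by decide +kernel

theorem cnt2_30 : countFrom orb 2 60000 2000 = 790 := by decide +kernel

theorem cnt2_31 : countFrom orb 2 62000 2000 = 992 := by decide +kernel

theorem cnt2_32 : countFrom orb 2 64000 2000 = 843 := by decide +kernel

theorem cnt2_33 : countFrom orb 2 66000 2000 = 806 := by decide +kernel

theorem cnt2_34 : countFrom orb 2 68000 2000 = 775 := by decide +kernel

theorem cnt2_35 : countFrom orb 2 70000 2000 = 864 := by decide +kernel

theorem cnt2_36 : countFrom orb 2 72000 2000 = 891 := by decide +kernel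

theorem cnt2_37 : countFrom orb 2 74000 2000 = 888 := by decide +kernel

theorem cnt2_38 : countFrom orb 2 76000 2000 = 912 := by decide +kernel

theorem cnt2_39 : countFrom orb 2 78000 2000 = 889 := by decide +kernel

theorem cnt2_40 : countFrom orb 2 80000 2000 = 889 := by decide +kernel

theorem cnt2_41 : countFrom orb 2 82000 2000 = 811 := by decide +kernel

theorem cnt2_42 : countFrom orb 2 84000 2000 = 789 := by decide +kernel

theorem cnt2_43 : countFrom orb 2 86000 2000 = 869 := by decide +kernel

theorem cnt2_44 : countFrom orb 2 88000 2000 = 926 := by decide +kernel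

theorem cnt2_45 : countFrom orb 2 90000 2000 = 812 := by decide +kernel

theorem cnt2_46 : countFrom orb 2 92000 2000 = 789 := by decide +kernel

theorem cnt2_47 : countFrom orb 2 94000 2000 = 763 := by decide +kernel

theorem cnt2_48 : countFrom orb 2 96000 2000 = 715 := by decide +kernel

theorem cnt2_49 : countFrom orb 2 98000 2000 = 817 := by decide +kernel

theorem cnt2_50 : countFrom orb 2 100000 2000 = 823 := by decide +kernel

theorem cnt2_51 : countFrom orb 2 102000 2000 = 752 := by decide +kernel

theorem cnt2_52 : countFrom orb 2 104000 2000 = 759 := by decide +kernel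

theorem cnt2_53 : countFrom orb 2 106000 2000 = 792 := by decide +kernel

theorem cnt2_54 : countFrom orb 2 108000 2000 = 727 := by decide +kernel

theorem cnt2_55 : countFrom orb 2 110000 2000 = 844 := by decide +kernel

theorem cnt2_56 : countFrom orb 2 112000 2000 = 820 := by decide +kernel

theorem cnt2_57 : countFrom orb 2 114000 2000 = 757 := by decide +kernel

theorem cnt2_58 : countFrom orb 2 116000 2000 = 752 := by decide +kernel

theorem cnt2_59 : countFrom orb 2 118000 2000 = 718 := by decide +kernel

theorem cnt2_60 : countFrom orb 2 120000 2000 = 616 := by decide +kernel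

theorem cnt2_61 : countFrom orb 2 122000 760 = 227 := by decide +kernel

theorem cnt3_0 : countFrom orb 3 0 2000 = 82 := by decide +kernel

theorem cnt3_1 : countFrom orb 3 2000 2000 = 65 := by decide +kernel

theorem cnt3_2 : countFrom orb 3 4000 2000 = 69 := by decide +kernel

theorem cnt3_3 : countFrom orb 3 6000 2000 = 82 := by decide +kernel

theorem cnt3_4 : countFrom orb 3 8000 2000 = 46 := by decide +kernel

theorem cnt3_5 : countFrom orb 3 10000 2000 = 86 := by decide +kernel

theorem cnt3_6 : countFrom orb 3 12000 2000 = 39 := by decide +kernel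

theorem cnt3_7 : countFrom orb 3 14000 2000 = 112 := by decide +kernel

theorem cnt3_8 : countFrom orb 3 16000 2000 = 94 := by decide +kernel

theorem cnt3_9 : countFrom orb 3 18000 2000 = 132 := by decide +kernel

theorem cnt3_10 : countFrom orb 3 20000 2000 = 43 := by decide +kernel

theorem cnt3_11 : countFrom orb 3 22000 2000 = 83 := by decide +kernel

theorem cnt3_12 : countFrom orb 3 24000 2000 = 103 := by decide +kernel

theorem cnt3_13 : countFrom orb 3 26000 2000 = 79 := by decide +kernel

theorem cnt3_14 : countFrom orb 3 28000 2000 = 81 := by decide +kernel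

theorem cnt3_15 : countFrom orb 3 30000 2000 = 58 := by decide +kernel

theorem cnt3_16 : countFrom orb 3 32000 2000 = 91 := by decide +kernel

theorem cnt3_17 : countFrom orb 3 34000 2000 = 140 := by decide +kernel

theorem cnt3_18 : countFrom orb 3 36000 2000 = 91 := by decide +kernel

theorem cnt3_19 : countFrom orb 3 38000 2000 = 102 := by decide +kernel

theorem cnt3_20 : countFrom orb 3 40000 2000 = 115 := by decide +kernel

theorem cnt3_21 : countFrom orb 3 42000 2000 = 131 := by decide +kernel

theorem cnt3_22 : countFrom orb 3 44000 2000 = 127 := by decide +kernel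

theorem cnt3_23 : countFrom orb 3 46000 2000 = 70 := by decide +kernel

theorem cnt3_24 : countFrom orb 3 48000 2000 = 74 := by decide +kernel

theorem cnt3_25 : countFrom orb 3 50000 2000 = 85 := by decide +kernel

theorem cnt3_26 : countFrom orb 3 52000 2000 = 99 := by decide +kernel

theorem cnt3_27 : countFrom orb 3 54000 2000 = 91 := by decide +kernel

theorem cnt3_28 : countFrom orb 3 56000 2000 = 153 := by decide +kernel

theorem cnt3_29 : countFrom orb 3 58000 2000 = 76 := by decide +kernel

theorem cnt3_30 : countFrom orb 3 60000 2000 = 102 := by decide +kernel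

theorem cnt3_31 : countFrom orb 3 62000 2000 = 76 := by decide +kernel

theorem cnt3_32 : countFrom orb 3 64000 2000 = 66 := by decide +kernel

theorem cnt3_33 : countFrom orb 3 66000 2000 = 77 := by decide +kernel

theorem cnt3_34 : countFrom orb 3 68000 2000 = 80 := by decide +kernel

theorem cnt3_35 : countFrom orb 3 70000 2000 = 124 := by decide +kernel

theorem cnt3_36 : countFrom orb 3 72000 2000 = 141 := by decide +kernel

theorem cnt3_37 : countFrom orb 3 74000 2000 = 87 := by decide +kernel

theorem cnt3_38 : countFrom orb 3 76000 2000 = 88 := by decide +kernel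

theorem cnt3_39 : countFrom orb 3 78000 2000 = 115 := by decide +kernel

theorem cnt3_40 : countFrom orb 3 80000 2000 = 145 := by decide +kernel

theorem cnt3_41 : countFrom orb 3 82000 2000 = 100 := by decide +kernel

theorem cnt3_42 : countFrom orb 3 84000 2000 = 102 := by decide +kernel

theorem cnt3_43 : countFrom orb 3 86000 2000 = 75 := by decide +kernel

theorem cnt3_44 : countFrom orb 3 88000 2000 = 91 := by decide +kernel

theorem cnt3_45 : countFrom orb 3 90000 2000 = 104 := by decide +kernel

theorem cnt3_46 : countFrom orb 3 92000 2000 = 92 := by decide +kernel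

theorem cnt3_47 : countFrom orb 3 94000 2000 = 116 := by decide +kernel

theorem cnt3_48 : countFrom orb 3 96000 2000 = 60 := by decide +kernel

theorem cnt3_49 : countFrom orb 3 98000 2000 = 105 := by decide +kernel

theorem cnt3_50 : countFrom orb 3 100000 2000 = 90 := by decide +kernel

theorem cnt3_51 : countFrom orb 3 102000 2000 = 79 := by decide +kernel

theorem cnt3_52 : countFrom orb 3 104000 2000 = 75 := by decide +kernel

theorem cnt3_53 : countFrom orb 3 106000 2000 = 74 := by decide +kernel

theorem cnt3_54 : countFrom orb 3 108000 2000 = 83 := by decide +kernel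

theorem cnt3_55 : countFrom orb 3 110000 2000 = 118 := by decide +kernel

theorem cnt3_56 : countFrom orb 3 112000 2000 = 70 := by decide +kernel

theorem cnt3_57 : countFrom orb 3 114000 2000 = 111 := by decide +kernel

theorem cnt3_58 : countFrom orb 3 116000 2000 = 91 := by decide +kernel

theorem cnt3_59 : countFrom orb 3 118000 2000 = 78 := by decide +kernel

theorem cnt3_60 : countFrom orb 3 120000 2000 = 55 := by decide +kernel

theorem cnt3_61 : countFrom orb 3 122000 760 = 17 := by decide +kernel

theorem cnt4_0 : countFrom orb 4 0 2000 = 378 := by decide +kernel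

theorem cnt4_1 : countFrom orb 4 2000 2000 = 258 := by decide +kernel

theorem cnt4_2 : countFrom orb 4 4000 2000 = 166 := by decide +kernel

theorem cnt4_3 : countFrom orb 4 6000 2000 = 149 := by decide +kernel

theorem cnt4_4 : countFrom orb 4 8000 2000 = 125 := by decide +kernel

theorem cnt4_5 : countFrom orb 4 10000 2000 = 169 := by decide +kernel

theorem cnt4_6 : countFrom orb 4 12000 2000 = 81 := by decide +kernel

theorem cnt4_7 : countFrom orb 4 14000 2000 = 115 := by decide +kernel

theorem cnt4_8 : countFrom orb 4 16000 2000 = 119 := by decide +kernel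

theorem cnt4_9 : countFrom orb 4 18000 2000 = 87 := by decide +kernel

theorem cnt4_10 : countFrom orb 4 20000 2000 = 144 := by decide +kernel

theorem cnt4_11 : countFrom orb 4 22000 2000 = 71 := by decide +kernel

theorem cnt4_12 : countFrom orb 4 24000 2000 = 107 := by decide +kernel

theorem cnt4_13 : countFrom orb 4 26000 2000 = 113 := by decide +kernel

theorem cnt4_14 : countFrom orb 4 28000 2000 = 90 := by decide +kernel

theorem cnt4_15 : countFrom orb 4 30000 2000 = 69 := by decide +kernel

theorem cnt4_16 : countFrom orb 4 32000 2000 = 127 := by decide +kernel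

theorem cnt4_17 : countFrom orb 4 34000 2000 = 98 := by decide +kernel

theorem cnt4_18 : countFrom orb 4 36000 2000 = 129 := by decide +kernel

theorem cnt4_19 : countFrom orb 4 38000 2000 = 115 := by decide +kernel

theorem cnt4_20 : countFrom orb 4 40000 2000 = 105 := by decide +kernel

theorem cnt4_21 : countFrom orb 4 42000 2000 = 73 := by decide +kernel

theorem cnt4_22 : countFrom orb 4 44000 2000 = 75 := by decide +kernel

theorem cnt4_23 : countFrom orb 4 46000 2000 = 142 := by decide +kernel

theorem cnt4_24 : countFrom orb 4 48000 2000 = 91 := by decide +kernel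

theorem cnt4_25 : countFrom orb 4 50000 2000 = 74 := by decide +kernel

theorem cnt4_26 : countFrom orb 4 52000 2000 = 101 := by decide +kernel

theorem cnt4_27 : countFrom orb 4 54000 2000 = 111 := by decide +kernel

theorem cnt4_28 : countFrom orb 4 56000 2000 = 106 := by decide +kernel

theorem cnt4_29 : countFrom orb 4 58000 2000 = 101 := by decide +kernel

theorem cnt4_30 : countFrom orb 4 60000 2000 = 135 := by decide +kernel

theorem cnt4_31 : countFrom orb 4 62000 2000 = 76 := by decide +kernel

theorem cnt4_32 : countFrom orb 4 64000 2000 = 119 := by decide +kernel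

theorem cnt4_33 : countFrom orb 4 66000 2000 = 118 := by decide +kernel

theorem cnt4_34 : countFrom orb 4 68000 2000 = 100 := by decide +kernel

theorem cnt4_35 : countFrom orb 4 70000 2000 = 89 := by decide +kernel

theorem cnt4_36 : countFrom orb 4 72000 2000 = 79 := by decide +kernel

theorem cnt4_37 : countFrom orb 4 74000 2000 = 119 := by decide +kernel

theorem cnt4_38 : countFrom orb 4 76000 2000 = 84 := by decide +kernel

theorem cnt4_39 : countFrom orb 4 78000 2000 = 121 := by decide +kernel

theorem cnt4_40 : countFrom orb 4 80000 2000 = 97 := by decide +kernel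

theorem cnt4_41 : countFrom orb 4 82000 2000 = 84 := by decide +kernel

theorem cnt4_42 : countFrom orb 4 84000 2000 = 81 := by decide +kernel

theorem cnt4_43 : countFrom orb 4 86000 2000 = 58 := by decide +kernel

theorem cnt4_44 : countFrom orb 4 88000 2000 = 110 := by decide +kernel

theorem cnt4_45 : countFrom orb 4 90000 2000 = 92 := by decide +kernel

theorem cnt4_46 : countFrom orb 4 92000 2000 = 59 := by decide +kernel

theorem cnt4_47 : countFrom orb 4 94000 2000 = 90 := by decide +kernel

theorem cnt4_48 : countFrom orb 4 96000 2000 = 76 := by decide +kernel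

theorem cnt4_49 : countFrom orb 4 98000 2000 = 102 := by decide +kernel

theorem cnt4_50 : countFrom orb 4 100000 2000 = 97 := by decide +kernel

theorem cnt4_51 : countFrom orb 4 102000 2000 = 132 := by decide +kernel

theorem cnt4_52 : countFrom orb 4 104000 2000 = 95 := by decide +kernel

theorem cnt4_53 : countFrom orb 4 106000 2000 = 72 := by decide +kernel

theorem cnt4_54 : countFrom orb 4 108000 2000 = 64 := by decide +kernel

theorem cnt4_55 : countFrom orb 4 110000 2000 = 61 := by decide +kernel

theorem cnt4_56 : countFrom orb 4 112000 2000 = 64 := by decide +kernel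

theorem cnt4_57 : countFrom orb 4 114000 2000 = 71 := by decide +kernel

theorem cnt4_58 : countFrom orb 4 116000 2000 = 49 := by decide +kernel

theorem cnt4_59 : countFrom orb 4 118000 2000 = 31 := by decide +kernel

theorem cnt4_60 : countFrom orb 4 120000 2000 = 58 := by decide +kernel

theorem cnt4_61 : countFrom orb 4 122000 760 = 12 := by decide +kernel

theorem lab_all : ∀ d < 122760, Nat.blt (orbLab orb d) 5 = true := by
  have h0 : ∀ d < 0, Nat.blt (orbLab orb d) 5 = true := fun d hd => absurd hd (Nat.not_lt_zero d)
  have h1 : ∀ d < 2000, Nat.blt (orbLab orb d) 5 = true := allFrom_step lab0_ok h0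
  have h2 : ∀ d < 4000, Nat.blt (orbLab orb d) 5 = true := allFrom_step lab1_ok h1
  have h3 : ∀ d < 6000, Nat.blt (orbLab orb d) 5 = true := allFrom_step lab2_ok h2
  have h4 : ∀ d < 8000, Nat.blt (orbLab orb d) 5 = true := allFrom_step lab3_ok h3
  have h5 : ∀ d < 10000, Nat.blt (orbLab orb d) 5 = true := allFrom_step lab4_ok h4
  have h6 : ∀ d < 12000, Nat.blt (orbLab orb d) 5 = true := allFrom_step lab5_ok h5
  have h7 : ∀ d < 14000, Nat.blt (orbLab orb d) 5 = true := allFrom_step lab6_ok h6
  have h8 : ∀ d < 16000, Nat.blt (orbLab orb d) 5 = true := allFrom_step lab7_ok h7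
  have h9 : ∀ d < 18000, Nat.blt (orbLab orb d) 5 = true := allFrom_step lab8_ok h8
  have h10 : ∀ d < 20000, Nat.blt (orbLab orb d) 5 = true := allFrom_step lab9_ok h9
  have h11 : ∀ d < 22000, Nat.blt (orbLab orb d) 5 = true := allFrom_step lab10_ok h10
  have h12 : ∀ d < 24000, Nat.blt (orbLab orb d) 5 = true := allFrom_step lab11_ok h11
  have h13 : ∀ d < 26000, Nat.blt (orbLab orb d) 5 = true := allFrom_step lab12_ok h12
  have h14 : ∀ d < 28000, Nat.blt (orbLab orb d) 5 = true := allFrom_step lab13_ok h13
  have h15 : ∀ d < 30000, Nat.blt (orbLab orb d) 5 = true := allFrom_step lab14_ok h14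
  have h16 : ∀ d < 32000, Nat.blt (orbLab orb d) 5 = true := allFrom_step lab15_ok h15
  have h17 : ∀ d < 34000, Nat.blt (orbLab orb d) 5 = true := allFrom_step lab16_ok h16
  have h18 : ∀ d < 36000, Nat.blt (orbLab orb d) 5 = true := allFrom_step lab17_ok h17
  have h19 : ∀ d < 38000, Nat.blt (orbLab orb d) 5 = true := allFrom_step lab18_ok h18
  have h20 : ∀ d < 40000, Nat.blt (orbLab orb d) 5 = true := allFrom_step lab19_ok h19
  have h21 : ∀ d < 42000, Nat.blt (orbLab orb d) 5 = true := allFrom_step lab20_ok h20
  have h22 : ∀ d < 44000, Nat.blt (orbLab orb d) 5 = true := allFrom_step lab21_ok h21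
  have h23 : ∀ d < 46000, Nat.blt (orbLab orb d) 5 = true := allFrom_step lab22_ok h22
  have h24 : ∀ d < 48000, Nat.blt (orbLab orb d) 5 = true := allFrom_step lab23_ok h23
  have h25 : ∀ d < 50000, Nat.blt (orbLab orb d) 5 = true := allFrom_step lab24_ok h24
  have h26 : ∀ d < 52000, Nat.blt (orbLab orb d) 5 = true := allFrom_step lab25_ok h25
  have h27 : ∀ d < 54000, Nat.blt (orbLab orb d) 5 = true := allFrom_step lab26_ok h26
  have h28 : ∀ d < 56000, Nat.blt (orbLab orb d) 5 = true := allFrom_step lab27_ok h27
  have h29 : ∀ d < 58000, Nat.blt (orbLab orb d) 5 = true := allFrom_step lab28_ok h28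
  have h30 : ∀ d < 60000, Nat.blt (orbLab orb d) 5 = true := allFrom_step lab29_ok h29
  have h31 : ∀ d < 62000, Nat.blt (orbLab orb d) 5 = true := allFrom_step lab30_ok h30
  have h32 : ∀ d < 64000, Nat.blt (orbLab orb d) 5 = true := allFrom_step lab31_ok h31
  have h33 : ∀ d < 66000, Nat.blt (orbLab orb d) 5 = true := allFrom_step lab32_ok h32
  have h34 : ∀ d < 68000, Nat.blt (orbLab orb d) 5 = true := allFrom_step lab33_ok h33
  have h35 : ∀ d < 70000, Nat.blt (orbLab orb d) 5 = true := allFrom_step lab34_ok h34
  have h36 : ∀ d < 72000, Nat.blt (orbLab orb d) 5 = true := allFrom_step lab35_ok h35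
  have h37 : ∀ d < 74000, Nat.blt (orbLab orb d) 5 = true := allFrom_step lab36_ok h36
  have h38 : ∀ d < 76000, Nat.blt (orbLab orb d) 5 = true := allFrom_step lab37_ok h37
  have h39 : ∀ d < 78000, Nat.blt (orbLab orb d) 5 = true := allFrom_step lab38_ok h38
  have h40 : ∀ d < 80000, Nat.blt (orbLab orb d) 5 = true := allFrom_step lab39_ok h39
  have h41 : ∀ d < 82000, Nat.blt (orbLab orb d) 5 = true := allFrom_step lab40_ok h40
  have h42 : ∀ d < 84000, Nat.blt (orbLab orb d) 5 = true := allFrom_step lab41_ok h41
  have h43 : ∀ d < 86000, Nat.blt (orbLab orb d) 5 = true := allFrom_step lab42_ok h42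
  have h44 : ∀ d < 88000, Nat.blt (orbLab orb d) 5 = true := allFrom_step lab43_ok h43
  have h45 : ∀ d < 90000, Nat.blt (orbLab orb d) 5 = true := allFrom_step lab44_ok h44
  have h46 : ∀ d < 92000, Nat.blt (orbLab orb d) 5 = true := allFrom_step lab45_ok h45
  have h47 : ∀ d < 94000, Nat.blt (orbLab orb d) 5 = true := allFrom_step lab46_ok h46
  have h48 : ∀ d < 96000, Nat.blt (orbLab orb d) 5 = true := allFrom_step lab47_ok h47
  have h49 : ∀ d < 98000, Nat.blt (orbLab orb d) 5 = true := allFrom_step lab48_ok h48
  have h50 : ∀ d < 100000, Nat.blt (orbLab orb d) 5 = true := allFrom_step lab49_ok h49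
  have h51 : ∀ d < 102000, Nat.blt (orbLab orb d) 5 = true := allFrom_step lab50_ok h50
  have h52 : ∀ d < 104000, Nat.blt (orbLab orb d) 5 = true := allFrom_step lab51_ok h51
  have h53 : ∀ d < 106000, Nat.blt (orbLab orb d) 5 = true := allFrom_step lab52_ok h52
  have h54 : ∀ d < 108000, Nat.blt (orbLab orb d) 5 = true := allFrom_step lab53_ok h53
  have h55 : ∀ d < 110000, Nat.blt (orbLab orb d) 5 = true := allFrom_step lab54_ok h54
  have h56 : ∀ d < 112000, Nat.blt (orbLab orb d) 5 = true := allFrom_step lab55_ok h55
  have h57 : ∀ d < 114000, Nat.blt (orbLab orb d) 5 = true := allFrom_step lab56_ok h56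
  have h58 : ∀ d < 116000, Nat.blt (orbLab orb d) 5 = true := allFrom_step lab57_ok h57
  have h59 : ∀ d < 118000, Nat.blt (orbLab orb d) 5 = true := allFrom_step lab58_ok h58
  have h60 : ∀ d < 120000, Nat.blt (orbLab orb d) 5 = true := allFrom_step lab59_ok h59
  have h61 : ∀ d < 122000, Nat.blt (orbLab orb d) 5 = true := allFrom_step lab60_ok h60
  have h62 : ∀ d < 122760, Nat.blt (orbLab orb d) 5 = true := allFrom_step lab61_ok h61
  exact h62

theorem count0 : countLab orb 0 122760 = 1 := by
  have h0 : countLab orb 0 0 = 0 := rfl
  have h1 : countLab orb 0 2000 = 1 := countLab_step h0 cnt0_0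
  have h2 : countLab orb 0 4000 = 1 := countLab_step h1 cnt0_1
  have h3 : countLab orb 0 6000 = 1 := countLab_step h2 cnt0_2
  have h4 : countLab orb 0 8000 = 1 := countLab_step h3 cnt0_3
  have h5 : countLab orb 0 10000 = 1 := countLab_step h4 cnt0_4
  have h6 : countLab orb 0 12000 = 1 := countLab_step h5 cnt0_5
  have h7 : countLab orb 0 14000 = 1 := countLab_step h6 cnt0_6
  have h8 : countLab orb 0 16000 = 1 := countLab_step h7 cnt0_7
  have h9 : countLab orb 0 18000 = 1 := countLab_step h8 cnt0_8
  have h10 : countLab orb 0 20000 = 1 := countLab_step h9 cnt0_9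
  have h11 : countLab orb 0 22000 = 1 := countLab_step h10 cnt0_10
  have h12 : countLab orb 0 24000 = 1 := countLab_step h11 cnt0_11
  have h13 : countLab orb 0 26000 = 1 := countLab_step h12 cnt0_12
  have h14 : countLab orb 0 28000 = 1 := countLab_step h13 cnt0_13
  have h15 : countLab orb 0 30000 = 1 := countLab_step h14 cnt0_14
  have h16 : countLab orb 0 32000 = 1 := countLab_step h15 cnt0_15
  have h17 : countLab orb 0 34000 = 1 := countLab_step h16 cnt0_16
  have h18 : countLab orb 0 36000 = 1 := countLab_step h17 cnt0_17
  have h19 : countLab orb 0 38000 = 1 := countLab_step h18 cnt0_18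
  have h20 : countLab orb 0 40000 = 1 := countLab_step h19 cnt0_19
  have h21 : countLab orb 0 42000 = 1 := countLab_step h20 cnt0_20
  have h22 : countLab orb 0 44000 = 1 := countLab_step h21 cnt0_21
  have h23 : countLab orb 0 46000 = 1 := countLab_step h22 cnt0_22
  have h24 : countLab orb 0 48000 = 1 := countLab_step h23 cnt0_23
  have h25 : countLab orb 0 50000 = 1 := countLab_step h24 cnt0_24
  have h26 : countLab orb 0 52000 = 1 := countLab_step h25 cnt0_25
  have h27 : countLab orb 0 54000 = 1 := countLab_step h26 cnt0_26
  have h28 : countLab orb 0 56000 = 1 := countLab_step h27 cnt0_27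
  have h29 : countLab orb 0 58000 = 1 := countLab_step h28 cnt0_28
  have h30 : countLab orb 0 60000 = 1 := countLab_step h29 cnt0_29
  have h31 : countLab orb 0 62000 = 1 := countLab_step h30 cnt0_30
  have h32 : countLab orb 0 64000 = 1 := countLab_step h31 cnt0_31
  have h33 : countLab orb 0 66000 = 1 := countLab_step h32 cnt0_32
  have h34 : countLab orb 0 68000 = 1 := countLab_step h33 cnt0_33
  have h35 : countLab orb 0 70000 = 1 := countLab_step h34 cnt0_34
  have h36 : countLab orb 0 72000 = 1 := countLab_step h35 cnt0_35
  have h37 : countLab orb 0 74000 = 1 := countLab_step h36 cnt0_36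
  have h38 : countLab orb 0 76000 = 1 := countLab_step h37 cnt0_37
  have h39 : countLab orb 0 78000 = 1 := countLab_step h38 cnt0_38
  have h40 : countLab orb 0 80000 = 1 := countLab_step h39 cnt0_39
  have h41 : countLab orb 0 82000 = 1 := countLab_step h40 cnt0_40
  have h42 : countLab orb 0 84000 = 1 := countLab_step h41 cnt0_41
  have h43 : countLab orb 0 86000 = 1 := countLab_step h42 cnt0_42
  have h44 : countLab orb 0 88000 = 1 := countLab_step h43 cnt0_43
  have h45 : countLab orb 0 90000 = 1 := countLab_step h44 cnt0_44
  have h46 : countLab orb 0 92000 = 1 := countLab_step h45 cnt0_45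
  have h47 : countLab orb 0 94000 = 1 := countLab_step h46 cnt0_46
  have h48 : countLab orb 0 96000 = 1 := countLab_step h47 cnt0_47
  have h49 : countLab orb 0 98000 = 1 := countLab_step h48 cnt0_48
  have h50 : countLab orb 0 100000 = 1 := countLab_step h49 cnt0_49
  have h51 : countLab orb 0 102000 = 1 := countLab_step h50 cnt0_50
  have h52 : countLab orb 0 104000 = 1 := countLab_step h51 cnt0_51
  have h53 : countLab orb 0 106000 = 1 := countLab_step h52 cnt0_52
  have h54 : countLab orb 0 108000 = 1 := countLab_step h53 cnt0_53
  have h55 : countLab orb 0 110000 = 1 := countLab_step h54 cnt0_54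
  have h56 : countLab orb 0 112000 = 1 := countLab_step h55 cnt0_55
  have h57 : countLab orb 0 114000 = 1 := countLab_step h56 cnt0_56
  have h58 : countLab orb 0 116000 = 1 := countLab_step h57 cnt0_57
  have h59 : countLab orb 0 118000 = 1 := countLab_step h58 cnt0_58
  have h60 : countLab orb 0 120000 = 1 := countLab_step h59 cnt0_59
  have h61 : countLab orb 0 122000 = 1 := countLab_step h60 cnt0_60
  have h62 : countLab orb 0 122760 = 1 := countLab_step h61 cnt0_61
  exact h62

theorem count1 : countLab orb 1 122760 = 58653 := by
  have h0 : countLab orb 1 0 = 0 := rfl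
  have h1 : countLab orb 1 2000 = 825 := countLab_step h0 cnt1_0
  have h2 : countLab orb 1 4000 = 1714 := countLab_step h1 cnt1_1
  have h3 : countLab orb 1 6000 = 2583 := countLab_step h2 cnt1_2
  have h4 : countLab orb 1 8000 = 3418 := countLab_step h3 cnt1_3
  have h5 : countLab orb 1 10000 = 4345 := countLab_step h4 cnt1_4
  have h6 : countLab orb 1 12000 = 5290 := countLab_step h5 cnt1_5
  have h7 : countLab orb 1 14000 = 6255 := countLab_step h6 cnt1_6
  have h8 : countLab orb 1 16000 = 7066 := countLab_step h7 cnt1_7
  have h9 : countLab orb 1 18000 = 7911 := countLab_step h8 cnt1_8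
  have h10 : countLab orb 1 20000 = 8794 := countLab_step h9 cnt1_9
  have h11 : countLab orb 1 22000 = 9588 := countLab_step h10 cnt1_10
  have h12 : countLab orb 1 24000 = 10502 := countLab_step h11 cnt1_11
  have h13 : countLab orb 1 26000 = 11616 := countLab_step h12 cnt1_12
  have h14 : countLab orb 1 28000 = 12396 := countLab_step h13 cnt1_13
  have h15 : countLab orb 1 30000 = 13323 := countLab_step h14 cnt1_14
  have h16 : countLab orb 1 32000 = 14241 := countLab_step h15 cnt1_15
  have h17 : countLab orb 1 34000 = 15234 := countLab_step h16 cnt1_16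
  have h18 : countLab orb 1 36000 = 16057 := countLab_step h17 cnt1_17
  have h19 : countLab orb 1 38000 = 16860 := countLab_step h18 cnt1_18
  have h20 : countLab orb 1 40000 = 17731 := countLab_step h19 cnt1_19
  have h21 : countLab orb 1 42000 = 18600 := countLab_step h20 cnt1_20
  have h22 : countLab orb 1 44000 = 19505 := countLab_step h21 cnt1_21
  have h23 : countLab orb 1 46000 = 20422 := countLab_step h22 cnt1_22
  have h24 : countLab orb 1 48000 = 21237 := countLab_step h23 cnt1_23
  have h25 : countLab orb 1 50000 = 22066 := countLab_step h24 cnt1_24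
  have h26 : countLab orb 1 52000 = 23043 := countLab_step h25 cnt1_25
  have h27 : countLab orb 1 54000 = 24034 := countLab_step h26 cnt1_26
  have h28 : countLab orb 1 56000 = 25101 := countLab_step h27 cnt1_27
  have h29 : countLab orb 1 58000 = 26012 := countLab_step h28 cnt1_28
  have h30 : countLab orb 1 60000 = 26892 := countLab_step h29 cnt1_29
  have h31 : countLab orb 1 62000 = 27865 := countLab_step h30 cnt1_30
  have h32 : countLab orb 1 64000 = 28721 := countLab_step h31 cnt1_31
  have h33 : countLab orb 1 66000 = 29693 := countLab_step h32 cnt1_32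
  have h34 : countLab orb 1 68000 = 30692 := countLab_step h33 cnt1_33
  have h35 : countLab orb 1 70000 = 31737 := countLab_step h34 cnt1_34
  have h36 : countLab orb 1 72000 = 32660 := countLab_step h35 cnt1_35
  have h37 : countLab orb 1 74000 = 33549 := countLab_step h36 cnt1_36
  have h38 : countLab orb 1 76000 = 34455 := countLab_step h37 cnt1_37
  have h39 : countLab orb 1 78000 = 35371 := countLab_step h38 cnt1_38
  have h40 : countLab orb 1 80000 = 36246 := countLab_step h39 cnt1_39
  have h41 : countLab orb 1 82000 = 37115 := countLab_step h40 cnt1_40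
  have h42 : countLab orb 1 84000 = 38120 := countLab_step h41 cnt1_41
  have h43 : countLab orb 1 86000 = 39148 := countLab_step h42 cnt1_42
  have h44 : countLab orb 1 88000 = 40146 := countLab_step h43 cnt1_43
  have h45 : countLab orb 1 90000 = 41019 := countLab_step h44 cnt1_44
  have h46 : countLab orb 1 92000 = 42011 := countLab_step h45 cnt1_45
  have h47 : countLab orb 1 94000 = 43071 := countLab_step h46 cnt1_46
  have h48 : countLab orb 1 96000 = 44102 := countLab_step h47 cnt1_47
  have h49 : countLab orb 1 98000 = 45251 := countLab_step h48 cnt1_48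
  have h50 : countLab orb 1 100000 = 46227 := countLab_step h49 cnt1_49
  have h51 : countLab orb 1 102000 = 47217 := countLab_step h50 cnt1_50
  have h52 : countLab orb 1 104000 = 48254 := countLab_step h51 cnt1_51
  have h53 : countLab orb 1 106000 = 49325 := countLab_step h52 cnt1_52
  have h54 : countLab orb 1 108000 = 50387 := countLab_step h53 cnt1_53
  have h55 : countLab orb 1 110000 = 51513 := countLab_step h54 cnt1_54
  have h56 : countLab orb 1 112000 = 52490 := countLab_step h55 cnt1_55
  have h57 : countLab orb 1 114000 = 53536 := countLab_step h56 cnt1_56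
  have h58 : countLab orb 1 116000 = 54597 := countLab_step h57 cnt1_57
  have h59 : countLab orb 1 118000 = 55705 := countLab_step h58 cnt1_58
  have h60 : countLab orb 1 120000 = 56878 := countLab_step h59 cnt1_59
  have h61 : countLab orb 1 122000 = 58149 := countLab_step h60 cnt1_60
  have h62 : countLab orb 1 122760 = 58653 := countLab_step h61 cnt1_61
  exact h62

theorem count2 : countLab orb 2 122760 = 52136 := by
  have h0 : countLab orb 2 0 = 0 := rfl
  have h1 : countLab orb 2 2000 = 714 := countLab_step h0 cnt2_0
  have h2 : countLab orb 2 4000 = 1502 := countLab_step h1 cnt2_1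
  have h3 : countLab orb 2 6000 = 2398 := countLab_step h2 cnt2_2
  have h4 : countLab orb 2 8000 = 3332 := countLab_step h3 cnt2_3
  have h5 : countLab orb 2 10000 = 4234 := countLab_step h4 cnt2_4
  have h6 : countLab orb 2 12000 = 5034 := countLab_step h5 cnt2_5
  have h7 : countLab orb 2 14000 = 5949 := countLab_step h6 cnt2_6
  have h8 : countLab orb 2 16000 = 6911 := countLab_step h7 cnt2_7
  have h9 : countLab orb 2 18000 = 7853 := countLab_step h8 cnt2_8
  have h10 : countLab orb 2 20000 = 8751 := countLab_step h9 cnt2_9
  have h11 : countLab orb 2 22000 = 9770 := countLab_step h10 cnt2_10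
  have h12 : countLab orb 2 24000 = 10702 := countLab_step h11 cnt2_11
  have h13 : countLab orb 2 26000 = 11378 := countLab_step h12 cnt2_12
  have h14 : countLab orb 2 28000 = 12406 := countLab_step h13 cnt2_13
  have h15 : countLab orb 2 30000 = 13308 := countLab_step h14 cnt2_14
  have h16 : countLab orb 2 32000 = 14263 := countLab_step h15 cnt2_15
  have h17 : countLab orb 2 34000 = 15052 := countLab_step h16 cnt2_16
  have h18 : countLab orb 2 36000 = 15991 := countLab_step h17 cnt2_17
  have h19 : countLab orb 2 38000 = 16968 := countLab_step h18 cnt2_18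
  have h20 : countLab orb 2 40000 = 17880 := countLab_step h19 cnt2_19
  have h21 : countLab orb 2 42000 = 18791 := countLab_step h20 cnt2_20
  have h22 : countLab orb 2 44000 = 19682 := countLab_step h21 cnt2_21
  have h23 : countLab orb 2 46000 = 20563 := countLab_step h22 cnt2_22
  have h24 : countLab orb 2 48000 = 21536 := countLab_step h23 cnt2_23
  have h25 : countLab orb 2 50000 = 22542 := countLab_step h24 cnt2_24
  have h26 : countLab orb 2 52000 = 23406 := countLab_step h25 cnt2_25
  have h27 : countLab orb 2 54000 = 24215 := countLab_step h26 cnt2_26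
  have h28 : countLab orb 2 56000 = 24946 := countLab_step h27 cnt2_27
  have h29 : countLab orb 2 58000 = 25776 := countLab_step h28 cnt2_28
  have h30 : countLab orb 2 60000 = 26719 := countLab_step h29 cnt2_29
  have h31 : countLab orb 2 62000 = 27509 := countLab_step h30 cnt2_30
  have h32 : countLab orb 2 64000 = 28501 := countLab_step h31 cnt2_31
  have h33 : countLab orb 2 66000 = 29344 := countLab_step h32 cnt2_32
  have h34 : countLab orb 2 68000 = 30150 := countLab_step h33 cnt2_33
  have h35 : countLab orb 2 70000 = 30925 := countLab_step h34 cnt2_34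
  have h36 : countLab orb 2 72000 = 31789 := countLab_step h35 cnt2_35
  have h37 : countLab orb 2 74000 = 32680 := countLab_step h36 cnt2_36
  have h38 : countLab orb 2 76000 = 33568 := countLab_step h37 cnt2_37
  have h39 : countLab orb 2 78000 = 34480 := countLab_step h38 cnt2_38
  have h40 : countLab orb 2 80000 = 35369 := countLab_step h39 cnt2_39
  have h41 : countLab orb 2 82000 = 36258 := countLab_step h40 cnt2_40
  have h42 : countLab orb 2 84000 = 37069 := countLab_step h41 cnt2_41
  have h43 : countLab orb 2 86000 = 37858 := countLab_step h42 cnt2_42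
  have h44 : countLab orb 2 88000 = 38727 := countLab_step h43 cnt2_43
  have h45 : countLab orb 2 90000 = 39653 := countLab_step h44 cnt2_44
  have h46 : countLab orb 2 92000 = 40465 := countLab_step h45 cnt2_45
  have h47 : countLab orb 2 94000 = 41254 := countLab_step h46 cnt2_46
  have h48 : countLab orb 2 96000 = 42017 := countLab_step h47 cnt2_47
  have h49 : countLab orb 2 98000 = 42732 := countLab_step h48 cnt2_48
  have h50 : countLab orb 2 100000 = 43549 := countLab_step h49 cnt2_49
  have h51 : countLab orb 2 102000 = 44372 := countLab_step h50 cnt2_50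
  have h52 : countLab orb 2 104000 = 45124 := countLab_step h51 cnt2_51
  have h53 : countLab orb 2 106000 = 45883 := countLab_step h52 cnt2_52
  have h54 : countLab orb 2 108000 = 46675 := countLab_step h53 cnt2_53
  have h55 : countLab orb 2 110000 = 47402 := countLab_step h54 cnt2_54
  have h56 : countLab orb 2 112000 = 48246 := countLab_step h55 cnt2_55
  have h57 : countLab orb 2 114000 = 49066 := countLab_step h56 cnt2_56
  have h58 : countLab orb 2 116000 = 49823 := countLab_step h57 cnt2_57
  have h59 : countLab orb 2 118000 = 50575 := countLab_step h58 cnt2_58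
  have h60 : countLab orb 2 120000 = 51293 := countLab_step h59 cnt2_59
  have h61 : countLab orb 2 122000 = 51909 := countLab_step h60 cnt2_60
  have h62 : countLab orb 2 122760 = 52136 := countLab_step h61 cnt2_61
  exact h62

theorem count3 : countLab orb 3 122760 = 5586 := by
  have h0 : countLab orb 3 0 = 0 := rfl
  have h1 : countLab orb 3 2000 = 82 := countLab_step h0 cnt3_0
  have h2 : countLab orb 3 4000 = 147 := countLab_step h1 cnt3_1
  have h3 : countLab orb 3 6000 = 216 := countLab_step h2 cnt3_2
  have h4 : countLab orb 3 8000 = 298 := countLab_step h3 cnt3_3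
  have h5 : countLab orb 3 10000 = 344 := countLab_step h4 cnt3_4
  have h6 : countLab orb 3 12000 = 430 := countLab_step h5 cnt3_5
  have h7 : countLab orb 3 14000 = 469 := countLab_step h6 cnt3_6
  have h8 : countLab orb 3 16000 = 581 := countLab_step h7 cnt3_7
  have h9 : countLab orb 3 18000 = 675 := countLab_step h8 cnt3_8
  have h10 : countLab orb 3 20000 = 807 := countLab_step h9 cnt3_9
  have h11 : countLab orb 3 22000 = 850 := countLab_step h10 cnt3_10
  have h12 : countLab orb 3 24000 = 933 := countLab_step h11 cnt3_11
  have h13 : countLab orb 3 26000 = 1036 := countLab_step h12 cnt3_12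
  have h14 : countLab orb 3 28000 = 1115 := countLab_step h13 cnt3_13
  have h15 : countLab orb 3 30000 = 1196 := countLab_step h14 cnt3_14
  have h16 : countLab orb 3 32000 = 1254 := countLab_step h15 cnt3_15
  have h17 : countLab orb 3 34000 = 1345 := countLab_step h16 cnt3_16
  have h18 : countLab orb 3 36000 = 1485 := countLab_step h17 cnt3_17
  have h19 : countLab orb 3 38000 = 1576 := countLab_step h18 cnt3_18
  have h20 : countLab orb 3 40000 = 1678 := countLab_step h19 cnt3_19
  have h21 : countLab orb 3 42000 = 1793 := countLab_step h20 cnt3_20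
  have h22 : countLab orb 3 44000 = 1924 := countLab_step h21 cnt3_21
  have h23 : countLab orb 3 46000 = 2051 := countLab_step h22 cnt3_22
  have h24 : countLab orb 3 48000 = 2121 := countLab_step h23 cnt3_23
  have h25 : countLab orb 3 50000 = 2195 := countLab_step h24 cnt3_24
  have h26 : countLab orb 3 52000 = 2280 := countLab_step h25 cnt3_25
  have h27 : countLab orb 3 54000 = 2379 := countLab_step h26 cnt3_26
  have h28 : countLab orb 3 56000 = 2470 := countLab_step h27 cnt3_27
  have h29 : countLab orb 3 58000 = 2623 := countLab_step h28 cnt3_28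
  have h30 : countLab orb 3 60000 = 2699 := countLab_step h29 cnt3_29
  have h31 : countLab orb 3 62000 = 2801 := countLab_step h30 cnt3_30
  have h32 : countLab orb 3 64000 = 2877 := countLab_step h31 cnt3_31
  have h33 : countLab orb 3 66000 = 2943 := countLab_step h32 cnt3_32
  have h34 : countLab orb 3 68000 = 3020 := countLab_step h33 cnt3_33
  have h35 : countLab orb 3 70000 = 3100 := countLab_step h34 cnt3_34
  have h36 : countLab orb 3 72000 = 3224 := countLab_step h35 cnt3_35
  have h37 : countLab orb 3 74000 = 3365 := countLab_step h36 cnt3_36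
  have h38 : countLab orb 3 76000 = 3452 := countLab_step h37 cnt3_37
  have h39 : countLab orb 3 78000 = 3540 := countLab_step h38 cnt3_38
  have h40 : countLab orb 3 80000 = 3655 := countLab_step h39 cnt3_39
  have h41 : countLab orb 3 82000 = 3800 := countLab_step h40 cnt3_40
  have h42 : countLab orb 3 84000 = 3900 := countLab_step h41 cnt3_41
  have h43 : countLab orb 3 86000 = 4002 := countLab_step h42 cnt3_42
  have h44 : countLab orb 3 88000 = 4077 := countLab_step h43 cnt3_43
  have h45 : countLab orb 3 90000 = 4168 := countLab_step h44 cnt3_44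
  have h46 : countLab orb 3 92000 = 4272 := countLab_step h45 cnt3_45
  have h47 : countLab orb 3 94000 = 4364 := countLab_step h46 cnt3_46
  have h48 : countLab orb 3 96000 = 4480 := countLab_step h47 cnt3_47
  have h49 : countLab orb 3 98000 = 4540 := countLab_step h48 cnt3_48
  have h50 : countLab orb 3 100000 = 4645 := countLab_step h49 cnt3_49
  have h51 : countLab orb 3 102000 = 4735 := countLab_step h50 cnt3_50
  have h52 : countLab orb 3 104000 = 4814 := countLab_step h51 cnt3_51
  have h53 : countLab orb 3 106000 = 4889 := countLab_step h52 cnt3_52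
  have h54 : countLab orb 3 108000 = 4963 := countLab_step h53 cnt3_53
  have h55 : countLab orb 3 110000 = 5046 := countLab_step h54 cnt3_54
  have h56 : countLab orb 3 112000 = 5164 := countLab_step h55 cnt3_55
  have h57 : countLab orb 3 114000 = 5234 := countLab_step h56 cnt3_56
  have h58 : countLab orb 3 116000 = 5345 := countLab_step h57 cnt3_57
  have h59 : countLab orb 3 118000 = 5436 := countLab_step h58 cnt3_58
  have h60 : countLab orb 3 120000 = 5514 := countLab_step h59 cnt3_59
  have h61 : countLab orb 3 122000 = 5569 := countLab_step h60 cnt3_60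
  have h62 : countLab orb 3 122760 = 5586 := countLab_step h61 cnt3_61
  exact h62

theorem count4 : countLab orb 4 122760 = 6384 := by
  have h0 : countLab orb 4 0 = 0 := rfl
  have h1 : countLab orb 4 2000 = 378 := countLab_step h0 cnt4_0
  have h2 : countLab orb 4 4000 = 636 := countLab_step h1 cnt4_1
  have h3 : countLab orb 4 6000 = 802 := countLab_step h2 cnt4_2
  have h4 : countLab orb 4 8000 = 951 := countLab_step h3 cnt4_3
  have h5 : countLab orb 4 10000 = 1076 := countLab_step h4 cnt4_4
  have h6 : countLab orb 4 12000 = 1245 := countLab_step h5 cnt4_5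
  have h7 : countLab orb 4 14000 = 1326 := countLab_step h6 cnt4_6
  have h8 : countLab orb 4 16000 = 1441 := countLab_step h7 cnt4_7
  have h9 : countLab orb 4 18000 = 1560 := countLab_step h8 cnt4_8
  have h10 : countLab orb 4 20000 = 1647 := countLab_step h9 cnt4_9
  have h11 : countLab orb 4 22000 = 1791 := countLab_step h10 cnt4_10
  have h12 : countLab orb 4 24000 = 1862 := countLab_step h11 cnt4_11
  have h13 : countLab orb 4 26000 = 1969 := countLab_step h12 cnt4_12
  have h14 : countLab orb 4 28000 = 2082 := countLab_step h13 cnt4_13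
  have h15 : countLab orb 4 30000 = 2172 := countLab_step h14 cnt4_14
  have h16 : countLab orb 4 32000 = 2241 := countLab_step h15 cnt4_15
  have h17 : countLab orb 4 34000 = 2368 := countLab_step h16 cnt4_16
  have h18 : countLab orb 4 36000 = 2466 := countLab_step h17 cnt4_17
  have h19 : countLab orb 4 38000 = 2595 := countLab_step h18 cnt4_18
  have h20 : countLab orb 4 40000 = 2710 := countLab_step h19 cnt4_19
  have h21 : countLab orb 4 42000 = 2815 := countLab_step h20 cnt4_20
  have h22 : countLab orb 4 44000 = 2888 := countLab_step h21 cnt4_21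
  have h23 : countLab orb 4 46000 = 2963 := countLab_step h22 cnt4_22
  have h24 : countLab orb 4 48000 = 3105 := countLab_step h23 cnt4_23
  have h25 : countLab orb 4 50000 = 3196 := countLab_step h24 cnt4_24
  have h26 : countLab orb 4 52000 = 3270 := countLab_step h25 cnt4_25
  have h27 : countLab orb 4 54000 = 3371 := countLab_step h26 cnt4_26
  have h28 : countLab orb 4 56000 = 3482 := countLab_step h27 cnt4_27
  have h29 : countLab orb 4 58000 = 3588 := countLab_step h28 cnt4_28
  have h30 : countLab orb 4 60000 = 3689 := countLab_step h29 cnt4_29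
  have h31 : countLab orb 4 62000 = 3824 := countLab_step h30 cnt4_30
  have h32 : countLab orb 4 64000 = 3900 := countLab_step h31 cnt4_31
  have h33 : countLab orb 4 66000 = 4019 := countLab_step h32 cnt4_32
  have h34 : countLab orb 4 68000 = 4137 := countLab_step h33 cnt4_33
  have h35 : countLab orb 4 70000 = 4237 := countLab_step h34 cnt4_34
  have h36 : countLab orb 4 72000 = 4326 := countLab_step h35 cnt4_35
  have h37 : countLab orb 4 74000 = 4405 := countLab_step h36 cnt4_36
  have h38 : countLab orb 4 76000 = 4524 := countLab_step h37 cnt4_37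
  have h39 : countLab orb 4 78000 = 4608 := countLab_step h38 cnt4_38
  have h40 : countLab orb 4 80000 = 4729 := countLab_step h39 cnt4_39
  have h41 : countLab orb 4 82000 = 4826 := countLab_step h40 cnt4_40
  have h42 : countLab orb 4 84000 = 4910 := countLab_step h41 cnt4_41
  have h43 : countLab orb 4 86000 = 4991 := countLab_step h42 cnt4_42
  have h44 : countLab orb 4 88000 = 5049 := countLab_step h43 cnt4_43
  have h45 : countLab orb 4 90000 = 5159 := countLab_step h44 cnt4_44
  have h46 : countLab orb 4 92000 = 5251 := countLab_step h45 cnt4_45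
  have h47 : countLab orb 4 94000 = 5310 := countLab_step h46 cnt4_46
  have h48 : countLab orb 4 96000 = 5400 := countLab_step h47 cnt4_47
  have h49 : countLab orb 4 98000 = 5476 := countLab_step h48 cnt4_48
  have h50 : countLab orb 4 100000 = 5578 := countLab_step h49 cnt4_49
  have h51 : countLab orb 4 102000 = 5675 := countLab_step h50 cnt4_50
  have h52 : countLab orb 4 104000 = 5807 := countLab_step h51 cnt4_51
  have h53 : countLab orb 4 106000 = 5902 := countLab_step h52 cnt4_52
  have h54 : countLab orb 4 108000 = 5974 := countLab_step h53 cnt4_53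
  have h55 : countLab orb 4 110000 = 6038 := countLab_step h54 cnt4_54
  have h56 : countLab orb 4 112000 = 6099 := countLab_step h55 cnt4_55
  have h57 : countLab orb 4 114000 = 6163 := countLab_step h56 cnt4_56
  have h58 : countLab orb 4 116000 = 6234 := countLab_step h57 cnt4_57
  have h59 : countLab orb 4 118000 = 6283 := countLab_step h58 cnt4_58
  have h60 : countLab orb 4 120000 = 6314 := countLab_step h59 cnt4_59
  have h61 : countLab orb 4 122000 = 6372 := countLab_step h60 cnt4_60
  have h62 : countLab orb 4 122760 = 6384 := countLab_step h61 cnt4_61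
  exact h62


end CfsgLib.CosetEnum.ONChain
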