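/-
Stabilisers and orbits in the representation on 122760 cosets.
-/
import Cfsg.Agent.Lib.CosetEnum.Orbit
import Cfsg.Agent.Lib.CosetEnum.OrbitChunk
import Cfsg.Agent.Lib.CosetEnum.ONChain.Orb

set_option autoImplicit false
set_option maxRecDepth 1000000

namespace CfsgLib.CosetEnum.ONChain

open CfsgLib.CosetEnum CfsgLib.CosetEnum.ON122760

theorem orbs0_ok : okOrbs table 7 hwR orb roots 0 2000 = true := by decide +kernel

theorem zq0_ok : allFrom 0 2000 (fun d => Nat.beq (runT table 7 [1, 2, 3, 6, 3, 2, 3, 2, 1, 2, 3, 6, 3, 2, 3, 2, 1, 2, 3, 6, 3, 2, 3, 2, 1, 2, 3, 6, 3, 2, 3, 2, 1, 2, 3, 6, 3, 2, 3, 2] d) d) = true := by decide +kernel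

theorem orbs1_ok : okOrbs table 7 hwR orb roots 2000 2000 = true := by decide +kernel

theorem zq1_ok : allFrom 2000 2000 (fun d => Nat.beq (runT table 7 [1, 2, 3, 6, 3, 2, 3, 2, 1, 2, 3, 6, 3, 2, 3, 2, 1, 2, 3, 6, 3, 2, 3, 2, 1, 2, 3, 6, 3, 2, 3, 2, 1, 2, 3, 6, 3, 2, 3, 2] d) d) = true := by decide +kernel

theorem orbs2_ok : okOrbs table 7 hwR orb roots 4000 2000 = true := by decide +kernel

theorem zq2_ok : allFrom 4000 2000 (fun d => Nat.beq (runT table 7 [1, 2, 3, 6, 3, 2, 3, 2, 1, 2, 3, 6, 3, 2, 3, 2, 1, 2, 3, 6, 3, 2, 3, 2, 1, 2, 3, 6, 3, 2, 3, 2, 1, 2, 3, 6, 3, 2, 3, 2] d) d) = true := by decide +kernel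

theorem orbs3_ok : okOrbs table 7 hwR orb roots 6000 2000 = true := by decide +kernel

theorem zq3_ok : allFrom 6000 2000 (fun d => Nat.beq (runT table 7 [1, 2, 3, 6, 3, 2, 3, 2, 1, 2, 3, 6, 3, 2, 3, 2, 1, 2, 3, 6, 3, 2, 3, 2, 1, 2, 3, 6, 3, 2, 3, 2, 1, 2, 3, 6, 3, 2, 3, 2] d) d) = true := by decide +kernel

theorem orbs4_ok : okOrbs table 7 hwR orb roots 8000 2000 = true := by decide +kernel

theorem zq4_ok : allFrom 8000 2000 (fun d => Nat.beq (runT table 7 [1, 2, 3, 6, 3, 2, 3, 2, 1, 2, 3, 6, 3, 2, 3, 2, 1, 2, 3, 6, 3, 2, 3, 2, 1, 2, 3, 6, 3, 2, 3, 2, 1, 2, 3, 6, 3, 2, 3, 2] d) d) = true := by decide +kernel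

theorem orbs5_ok : okOrbs table 7 hwR orb roots 10000 2000 = true := by decide +kernel

theorem zq5_ok : allFrom 10000 2000 (fun d => Nat.beq (runT table 7 [1, 2, 3, 6, 3, 2, 3, 2, 1, 2, 3, 6, 3, 2, 3, 2, 1, 2, 3, 6, 3, 2, 3, 2, 1, 2, 3, 6, 3, 2, 3, 2, 1, 2, 3, 6, 3, 2, 3, 2] d) d) = true := by decide +kernel

theorem orbs6_ok : okOrbs table 7 hwR orb roots 12000 2000 = true := by decide +kernel

theorem zq6_ok : allFrom 12000 2000 (fun d => Nat.beq (runT table 7 [1, 2, 3, 6, 3, 2, 3, 2, 1, 2, 3, 6, 3, 2, 3, 2, 1, 2, 3, 6, 3, 2, 3, 2, 1, 2, 3, 6, 3, 2, 3, 2, 1, 2, 3, 6, 3, 2, 3, 2] d) d) = true := by decide +kernel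

theorem orbs7_ok : okOrbs table 7 hwR orb roots 14000 2000 = true := by decide +kernel

theorem zq7_ok : allFrom 14000 2000 (fun d => Nat.beq (runT table 7 [1, 2, 3, 6, 3, 2, 3, 2, 1, 2, 3, 6, 3, 2, 3, 2, 1, 2, 3, 6, 3, 2, 3, 2, 1, 2, 3, 6, 3, 2, 3, 2, 1, 2, 3, 6, 3, 2, 3, 2] d) d) = true := by decide +kernel

theorem orbs8_ok : okOrbs table 7 hwR orb roots 16000 2000 = true := by decide +kernel

theorem zq8_ok : allFrom 16000 2000 (fun d => Nat.beq (runT table 7 [1, 2, 3, 6, 3, 2, 3, 2, 1, 2, 3, 6, 3, 2, 3, 2, 1, 2, 3, 6, 3, 2, 3, 2, 1, 2, 3, 6, 3, 2, 3, 2, 1, 2, 3, 6, 3, 2, 3, 2] d) d) = true := by decide +kernel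

theorem orbs9_ok : okOrbs table 7 hwR orb roots 18000 2000 = true := by decide +kernel

theorem zq9_ok : allFrom 18000 2000 (fun d => Nat.beq (runT table 7 [1, 2, 3, 6, 3, 2, 3, 2, 1, 2, 3, 6, 3, 2, 3, 2, 1, 2, 3, 6, 3, 2, 3, 2, 1, 2, 3, 6, 3, 2, 3, 2, 1, 2, 3, 6, 3, 2, 3, 2] d) d) = true := by decide +kernel

theorem orbs10_ok : okOrbs table 7 hwR orb roots 20000 2000 = true := by decide +kernel

theorem zq10_ok : allFrom 20000 2000 (fun d => Nat.beq (runT table 7 [1, 2, 3, 6, 3, 2, 3, 2, 1, 2, 3, 6, 3, 2, 3, 2, 1, 2, 3, 6, 3, 2, 3, 2, 1, 2, 3, 6, 3, 2, 3, 2, 1, 2, 3, 6, 3, 2, 3, 2] d) d) = true := by decide +kernel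

theorem orbs11_ok : okOrbs table 7 hwR orb roots 22000 2000 = true := by decide +kernel

theorem zq11_ok : allFrom 22000 2000 (fun d => Nat.beq (runT table 7 [1, 2, 3, 6, 3, 2, 3, 2, 1, 2, 3, 6, 3, 2, 3, 2, 1, 2, 3, 6, 3, 2, 3, 2, 1, 2, 3, 6, 3, 2, 3, 2, 1, 2, 3, 6, 3, 2, 3, 2] d) d) = true := by decide +kernel

theorem orbs12_ok : okOrbs table 7 hwR orb roots 24000 2000 = true := by decide +kernel

theorem zq12_ok : allFrom 24000 2000 (fun d => Nat.beq (runT table 7 [1, 2, 3, 6, 3, 2, 3, 2, 1, 2, 3, 6, 3, 2, 3, 2, 1, 2, 3, 6, 3, 2, 3, 2, 1, 2, 3, 6, 3, 2, 3, 2, 1, 2, 3, 6, 3, 2, 3, 2] d) d) = true := by decide +kernel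

theorem orbs13_ok : okOrbs table 7 hwR orb roots 26000 2000 = true := by decide +kernel

theorem zq13_ok : allFrom 26000 2000 (fun d => Nat.beq (runT table 7 [1, 2, 3, 6, 3, 2, 3, 2, 1, 2, 3, 6, 3, 2, 3, 2, 1, 2, 3, 6, 3, 2, 3, 2, 1, 2, 3, 6, 3, 2, 3, 2, 1, 2, 3, 6, 3, 2, 3, 2] d) d) = true := by decide +kernel

theorem orbs14_ok : okOrbs table 7 hwR orb roots 28000 2000 = true := by decide +kernel

theorem zq14_ok : allFrom 28000 2000 (fun d => Nat.beq (runT table 7 [1, 2, 3, 6, 3, 2, 3, 2, 1, 2, 3, 6, 3, 2, 3, 2, 1, 2, 3, 6, 3, 2, 3, 2, 1, 2, 3, 6, 3, 2, 3, 2, 1, 2, 3, 6, 3, 2, 3, 2] d) d) = true := by decide +kernel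

theorem orbs15_ok : okOrbs table 7 hwR orb roots 30000 2000 = true := by decide +kernel

theorem zq15_ok : allFrom 30000 2000 (fun d => Nat.beq (runT table 7 [1, 2, 3, 6, 3, 2, 3, 2, 1, 2, 3, 6, 3, 2, 3, 2, 1, 2, 3, 6, 3, 2, 3, 2, 1, 2, 3, 6, 3, 2, 3, 2, 1, 2, 3, 6, 3, 2, 3, 2] d) d) = true := by decide +kernel


end CfsgLib.CosetEnum.ONChain
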