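/-
Stabilisers and orbits in the representation on 122760 cosets.
-/
import Cfsg.Agent.Lib.CosetEnum.Orbit
import Cfsg.Agent.Lib.CosetEnum.OrbitChunk
import Cfsg.Agent.Lib.CosetEnum.ONChain.Orb

set_option autoImplicit false
set_option maxRecDepth 1000000

namespace CfsgLib.CosetEnum.ONChain

open CfsgLib.CosetEnum CfsgLib.CosetEnum.ON122760

theorem orbs16_ok : okOrbs table 7 hwR orb roots 32000 2000 = true := by decide +kernel

theorem zq16_ok : allFrom 32000 2000 (fun d => Nat.beq (runT table 7 [1, 2, 3, 6, 3, 2, 3, 2, 1, 2, 3, 6, 3, 2, 3, 2, 1, 2, 3, 6, 3, 2, 3, 2, 1, 2, 3, 6, 3, 2, 3, 2, 1, 2, 3, 6, 3, 2, 3, 2] d) d) = true := by decide +kernel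

theorem orbs17_ok : okOrbs table 7 hwR orb roots 34000 2000 = true := by decide +kernel

theorem zq17_ok : allFrom 34000 2000 (fun d => Nat.beq (runT table 7 [1, 2, 3, 6, 3, 2, 3, 2, 1, 2, 3, 6, 3, 2, 3, 2, 1, 2, 3, 6, 3, 2, 3, 2, 1, 2, 3, 6, 3, 2, 3, 2, 1, 2, 3, 6, 3, 2, 3, 2] d) d) = true := by decide +kernel

theorem orbs18_ok : okOrbs table 7 hwR orb roots 36000 2000 = true := by decide +kernel

theorem zq18_ok : allFrom 36000 2000 (fun d => Nat.beq (runT table 7 [1, 2, 3, 6, 3, 2, 3, 2, 1, 2, 3, 6, 3, 2, 3, 2, 1, 2, 3, 6, 3, 2, 3, 2, 1, 2, 3, 6, 3, 2, 3, 2, 1, 2, 3, 6, 3, 2, 3, 2] d) d) = true := by decide +kernel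

theorem orbs19_ok : okOrbs table 7 hwR orb roots 38000 2000 = true := by decide +kernel

theorem zq19_ok : allFrom 38000 2000 (fun d => Nat.beq (runT table 7 [1, 2, 3, 6, 3, 2, 3, 2, 1, 2, 3, 6, 3, 2, 3, 2, 1, 2, 3, 6, 3, 2, 3, 2, 1, 2, 3, 6, 3, 2, 3, 2, 1, 2, 3, 6, 3, 2, 3, 2] d) d) = true := by decide +kernel

theorem orbs20_ok : okOrbs table 7 hwR orb roots 40000 2000 = true := by decide +kernel

theorem zq20_ok : allFrom 40000 2000 (fun d => Nat.beq (runT table 7 [1, 2, 3, 6, 3, 2, 3, 2, 1, 2, 3, 6, 3, 2, 3, 2, 1, 2, 3, 6, 3, 2, 3, 2, 1, 2, 3, 6, 3, 2, 3, 2, 1, 2, 3, 6, 3, 2, 3, 2] d) d) = true := by decide +kernel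

theorem orbs21_ok : okOrbs table 7 hwR orb roots 42000 2000 = true := by decide +kernel

theorem zq21_ok : allFrom 42000 2000 (fun d => Nat.beq (runT table 7 [1, 2, 3, 6, 3, 2, 3, 2, 1, 2, 3, 6, 3, 2, 3, 2, 1, 2, 3, 6, 3, 2, 3, 2, 1, 2, 3, 6, 3, 2, 3, 2, 1, 2, 3, 6, 3, 2, 3, 2] d) d) = true := by decide +kernel

theorem orbs22_ok : okOrbs table 7 hwR orb roots 44000 2000 = true := by decide +kernel

theorem zq22_ok : allFrom 44000 2000 (fun d => Nat.beq (runT table 7 [1, 2, 3, 6, 3, 2, 3, 2, 1, 2, 3, 6, 3, 2, 3, 2, 1, 2, 3, 6, 3, 2, 3, 2, 1, 2, 3, 6, 3, 2, 3, 2, 1, 2, 3, 6, 3, 2, 3, 2] d) d) = true := by decide +kernel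

theorem orbs23_ok : okOrbs table 7 hwR orb roots 46000 2000 = true := by decide +kernel

theorem zq23_ok : allFrom 46000 2000 (fun d => Nat.beq (runT table 7 [1, 2, 3, 6, 3, 2, 3, 2, 1, 2, 3, 6, 3, 2, 3, 2, 1, 2, 3, 6, 3, 2, 3, 2, 1, 2, 3, 6, 3, 2, 3, 2, 1, 2, 3, 6, 3, 2, 3, 2] d) d) = true := by decide +kernel

theorem orbs24_ok : okOrbs table 7 hwR orb roots 48000 2000 = true := by decide +kernel

theorem zq24_ok : allFrom 48000 2000 (fun d => Nat.beq (runT table 7 [1, 2, 3, 6, 3, 2, 3, 2, 1, 2, 3, 6, 3, 2, 3, 2, 1, 2, 3, 6, 3, 2, 3, 2, 1, 2, 3, 6, 3, 2, 3, 2, 1, 2, 3, 6, 3, 2, 3, 2] d) d) = true := by decide +kernel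

theorem orbs25_ok : okOrbs table 7 hwR orb roots 50000 2000 = true := by decide +kernel

theorem zq25_ok : allFrom 50000 2000 (fun d => Nat.beq (runT table 7 [1, 2, 3, 6, 3, 2, 3, 2, 1, 2, 3, 6, 3, 2, 3, 2, 1, 2, 3, 6, 3, 2, 3, 2, 1, 2, 3, 6, 3, 2, 3, 2, 1, 2, 3, 6, 3, 2, 3, 2] d) d) = true := by decide +kernel

theorem orbs26_ok : okOrbs table 7 hwR orb roots 52000 2000 = true := by decide +kernel

theorem zq26_ok : allFrom 52000 2000 (fun d => Nat.beq (runT table 7 [1, 2, 3, 6, 3, 2, 3, 2, 1, 2, 3, 6, 3, 2, 3, 2, 1, 2, 3, 6, 3, 2, 3, 2, 1, 2, 3, 6, 3, 2, 3, 2, 1, 2, 3, 6, 3, 2, 3, 2] d) d) = true := by decide +kernel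

theorem orbs27_ok : okOrbs table 7 hwR orb roots 54000 2000 = true := by decide +kernel

theorem zq27_ok : allFrom 54000 2000 (fun d => Nat.beq (runT table 7 [1, 2, 3, 6, 3, 2, 3, 2, 1, 2, 3, 6, 3, 2, 3, 2, 1, 2, 3, 6, 3, 2, 3, 2, 1, 2, 3, 6, 3, 2, 3, 2, 1, 2, 3, 6, 3, 2, 3, 2] d) d) = true := by decide +kernel

theorem orbs28_ok : okOrbs table 7 hwR orb roots 56000 2000 = true := by decide +kernel

theorem zq28_ok : allFrom 56000 2000 (fun d => Nat.beq (runT table 7 [1, 2, 3, 6, 3, 2, 3, 2, 1, 2, 3, 6, 3, 2, 3, 2, 1, 2, 3, 6, 3, 2, 3, 2, 1, 2, 3, 6, 3, 2, 3, 2, 1, 2, 3, 6, 3, 2, 3, 2] d) d) = true := by decide +kernel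

theorem orbs29_ok : okOrbs table 7 hwR orb roots 58000 2000 = true := by decide +kernel

theorem zq29_ok : allFrom 58000 2000 (fun d => Nat.beq (runT table 7 [1, 2, 3, 6, 3, 2, 3, 2, 1, 2, 3, 6, 3, 2, 3, 2, 1, 2, 3, 6, 3, 2, 3, 2, 1, 2, 3, 6, 3, 2, 3, 2, 1, 2, 3, 6, 3, 2, 3, 2] d) d) = true := by decide +kernel

theorem orbs30_ok : okOrbs table 7 hwR orb roots 60000 2000 = true := by decide +kernel

theorem zq30_ok : allFrom 60000 2000 (fun d => Nat.beq (runT table 7 [1, 2, 3, 6, 3, 2, 3, 2, 1, 2, 3, 6, 3, 2, 3, 2, 1, 2, 3, 6, 3, 2, 3, 2, 1, 2, 3, 6, 3, 2, 3, 2, 1, 2, 3, 6, 3, 2, 3, 2] d) d) = true := by decide +kernel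

theorem orbs31_ok : okOrbs table 7 hwR orb roots 62000 2000 = true := by decide +kernel

theorem zq31_ok : allFrom 62000 2000 (fun d => Nat.beq (runT table 7 [1, 2, 3, 6, 3, 2, 3, 2, 1, 2, 3, 6, 3, 2, 3, 2, 1, 2, 3, 6, 3, 2, 3, 2, 1, 2, 3, 6, 3, 2, 3, 2, 1, 2, 3, 6, 3, 2, 3, 2] d) d) = true := by decide +kernel


end CfsgLib.CosetEnum.ONChain
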