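/-
Stabilisers and orbits in the representation on 122760 cosets.
-/
import Cfsg.Agent.Lib.CosetEnum.Orbit
import Cfsg.Agent.Lib.CosetEnum.OrbitChunk
import Cfsg.Agent.Lib.CosetEnum.ONChain.Orb

set_option autoImplicit false
set_option maxRecDepth 1000000

namespace CfsgLib.CosetEnum.ONChain

open CfsgLib.CosetEnum CfsgLib.CosetEnum.ON122760

theorem orbs32_ok : okOrbs table 7 hwR orb roots 64000 2000 = true := by decide +kernel

theorem zq32_ok : allFrom 64000 2000 (fun d => Nat.beq (runT table 7 [1, 2, 3, 6, 3, 2, 3, 2, 1, 2, 3, 6, 3, 2, 3, 2, 1, 2, 3, 6, 3, 2, 3, 2, 1, 2, 3, 6, 3, 2, 3, 2, 1, 2, 3, 6, 3, 2, 3, 2] d) d) = true := by decide +kernel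

theorem orbs33_ok : okOrbs table 7 hwR orb roots 66000 2000 = true := by decide +kernel

theorem zq33_ok : allFrom 66000 2000 (fun d => Nat.beq (runT table 7 [1, 2, 3, 6, 3, 2, 3, 2, 1, 2, 3, 6, 3, 2, 3, 2, 1, 2, 3, 6, 3, 2, 3, 2, 1, 2, 3, 6, 3, 2, 3, 2, 1, 2, 3, 6, 3, 2, 3, 2] d) d) = true := by decide +kernel

theorem orbs34_ok : okOrbs table 7 hwR orb roots 68000 2000 = true := by decide +kernel

theorem zq34_ok : allFrom 68000 2000 (fun d => Nat.beq (runT table 7 [1, 2, 3, 6, 3, 2, 3, 2, 1, 2, 3, 6, 3, 2, 3, 2, 1, 2, 3, 6, 3, 2, 3, 2, 1, 2, 3, 6, 3, 2, 3, 2, 1, 2, 3, 6, 3, 2, 3, 2] d) d) = true := by decide +kernel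

theorem orbs35_ok : okOrbs table 7 hwR orb roots 70000 2000 = true := by decide +kernel

theorem zq35_ok : allFrom 70000 2000 (fun d => Nat.beq (runT table 7 [1, 2, 3, 6, 3, 2, 3, 2, 1, 2, 3, 6, 3, 2, 3, 2, 1, 2, 3, 6, 3, 2, 3, 2, 1, 2, 3, 6, 3, 2, 3, 2, 1, 2, 3, 6, 3, 2, 3, 2] d) d) = true := by decide +kernel

theorem orbs36_ok : okOrbs table 7 hwR orb roots 72000 2000 = true := by decide +kernel

theorem zq36_ok : allFrom 72000 2000 (fun d => Nat.beq (runT table 7 [1, 2, 3, 6, 3, 2, 3, 2, 1, 2, 3, 6, 3, 2, 3, 2, 1, 2, 3, 6, 3, 2, 3, 2, 1, 2, 3, 6, 3, 2, 3, 2, 1, 2, 3, 6, 3, 2, 3, 2] d) d) = true := by decide +kernel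

theorem orbs37_ok : okOrbs table 7 hwR orb roots 74000 2000 = true := by decide +kernel

theorem zq37_ok : allFrom 74000 2000 (fun d => Nat.beq (runT table 7 [1, 2, 3, 6, 3, 2, 3, 2, 1, 2, 3, 6, 3, 2, 3, 2, 1, 2, 3, 6, 3, 2, 3, 2, 1, 2, 3, 6, 3, 2, 3, 2, 1, 2, 3, 6, 3, 2, 3, 2] d) d) = true := by decide +kernel

theorem orbs38_ok : okOrbs table 7 hwR orb roots 76000 2000 = true := by decide +kernel

theorem zq38_ok : allFrom 76000 2000 (fun d => Nat.beq (runT table 7 [1, 2, 3, 6, 3, 2, 3, 2, 1, 2, 3, 6, 3, 2, 3, 2, 1, 2, 3, 6, 3, 2, 3, 2, 1, 2, 3, 6, 3, 2, 3, 2, 1, 2, 3, 6, 3, 2, 3, 2] d) d) = true := by decide +kernel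

theorem orbs39_ok : okOrbs table 7 hwR orb roots 78000 2000 = true := by decide +kernel

theorem zq39_ok : allFrom 78000 2000 (fun d => Nat.beq (runT table 7 [1, 2, 3, 6, 3, 2, 3, 2, 1, 2, 3, 6, 3, 2, 3, 2, 1, 2, 3, 6, 3, 2, 3, 2, 1, 2, 3, 6, 3, 2, 3, 2, 1, 2, 3, 6, 3, 2, 3, 2] d) d) = true := by decide +kernel

theorem orbs40_ok : okOrbs table 7 hwR orb roots 80000 2000 = true := by decide +kernel

theorem zq40_ok : allFrom 80000 2000 (fun d => Nat.beq (runT table 7 [1, 2, 3, 6, 3, 2, 3, 2, 1, 2, 3, 6, 3, 2, 3, 2, 1, 2, 3, 6, 3, 2, 3, 2, 1, 2, 3, 6, 3, 2, 3, 2, 1, 2, 3, 6, 3, 2, 3, 2] d) d) = true := by decide +kernel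

theorem orbs41_ok : okOrbs table 7 hwR orb roots 82000 2000 = true := by decide +kernel

theorem zq41_ok : allFrom 82000 2000 (fun d => Nat.beq (runT table 7 [1, 2, 3, 6, 3, 2, 3, 2, 1, 2, 3, 6, 3, 2, 3, 2, 1, 2, 3, 6, 3, 2, 3, 2, 1, 2, 3, 6, 3, 2, 3, 2, 1, 2, 3, 6, 3, 2, 3, 2] d) d) = true := by decide +kernel

theorem orbs42_ok : okOrbs table 7 hwR orb roots 84000 2000 = true := by decide +kernel

theorem zq42_ok : allFrom 84000 2000 (fun d => Nat.beq (runT table 7 [1, 2, 3, 6, 3, 2, 3, 2, 1, 2, 3, 6, 3, 2, 3, 2, 1, 2, 3, 6, 3, 2, 3, 2, 1, 2, 3, 6, 3, 2, 3, 2, 1, 2, 3, 6, 3, 2, 3, 2] d) d) = true := by decide +kernel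

theorem orbs43_ok : okOrbs table 7 hwR orb roots 86000 2000 = true := by decide +kernel

theorem zq43_ok : allFrom 86000 2000 (fun d => Nat.beq (runT table 7 [1, 2, 3, 6, 3, 2, 3, 2, 1, 2, 3, 6, 3, 2, 3, 2, 1, 2, 3, 6, 3, 2, 3, 2, 1, 2, 3, 6, 3, 2, 3, 2, 1, 2, 3, 6, 3, 2, 3, 2] d) d) = true := by decide +kernel

theorem orbs44_ok : okOrbs table 7 hwR orb roots 88000 2000 = true := by decide +kernel

theorem zq44_ok : allFrom 88000 2000 (fun d => Nat.beq (runT table 7 [1, 2, 3, 6, 3, 2, 3, 2, 1, 2, 3, 6, 3, 2, 3, 2, 1, 2, 3, 6, 3, 2, 3, 2, 1, 2, 3, 6, 3, 2, 3, 2, 1, 2, 3, 6, 3, 2, 3, 2] d) d) = true := by decide +kernel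

theorem orbs45_ok : okOrbs table 7 hwR orb roots 90000 2000 = true := by decide +kernel

theorem zq45_ok : allFrom 90000 2000 (fun d => Nat.beq (runT table 7 [1, 2, 3, 6, 3, 2, 3, 2, 1, 2, 3, 6, 3, 2, 3, 2, 1, 2, 3, 6, 3, 2, 3, 2, 1, 2, 3, 6, 3, 2, 3, 2, 1, 2, 3, 6, 3, 2, 3, 2] d) d) = true := by decide +kernel

theorem orbs46_ok : okOrbs table 7 hwR orb roots 92000 2000 = true := by decide +kernel

theorem zq46_ok : allFrom 92000 2000 (fun d => Nat.beq (runT table 7 [1, 2, 3, 6, 3, 2, 3, 2, 1, 2, 3, 6, 3, 2, 3, 2, 1, 2, 3, 6, 3, 2, 3, 2, 1, 2, 3, 6, 3, 2, 3, 2, 1, 2, 3, 6, 3, 2, 3, 2] d) d) = true := by decide +kernel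

theorem orbs47_ok : okOrbs table 7 hwR orb roots 94000 2000 = true := by decide +kernel

theorem zq47_ok : allFrom 94000 2000 (fun d => Nat.beq (runT table 7 [1, 2, 3, 6, 3, 2, 3, 2, 1, 2, 3, 6, 3, 2, 3, 2, 1, 2, 3, 6, 3, 2, 3, 2, 1, 2, 3, 6, 3, 2, 3, 2, 1, 2, 3, 6, 3, 2, 3, 2] d) d) = true := by decide +kernel


end CfsgLib.CosetEnum.ONChain
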