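/-
Stabilisers and orbits in the representation on 122760 cosets.
-/
import Cfsg.Agent.Lib.CosetEnum.Orbit
import Cfsg.Agent.Lib.CosetEnum.OrbitChunk
import Cfsg.Agent.Lib.CosetEnum.ONChain.Orb

set_option autoImplicit false
set_option maxRecDepth 1000000

namespace CfsgLib.CosetEnum.ONChain

open CfsgLib.CosetEnum CfsgLib.CosetEnum.ON122760

theorem orbs48_ok : okOrbs table 7 hwR orb roots 96000 2000 = true := by decide +kernel

theorem zq48_ok : allFrom 96000 2000 (fun d => Nat.beq (runT table 7 [1, 2, 3, 6, 3, 2, 3, 2, 1, 2, 3, 6, 3, 2, 3, 2, 1, 2, 3, 6, 3, 2, 3, 2, 1, 2, 3, 6, 3, 2, 3, 2, 1, 2, 3, 6, 3, 2, 3, 2] d) d) = true := by decide +kernel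

theorem orbs49_ok : okOrbs table 7 hwR orb roots 98000 2000 = true := by decide +kernel

theorem zq49_ok : allFrom 98000 2000 (fun d => Nat.beq (runT table 7 [1, 2, 3, 6, 3, 2, 3, 2, 1, 2, 3, 6, 3, 2, 3, 2, 1, 2, 3, 6, 3, 2, 3, 2, 1, 2, 3, 6, 3, 2, 3, 2, 1, 2, 3, 6, 3, 2, 3, 2] d) d) = true := by decide +kernel

theorem orbs50_ok : okOrbs table 7 hwR orb roots 100000 2000 = true := by decide +kernel

theorem zq50_ok : allFrom 100000 2000 (fun d => Nat.beq (runT table 7 [1, 2, 3, 6, 3, 2, 3, 2, 1, 2, 3, 6, 3, 2, 3, 2, 1, 2, 3, 6, 3, 2, 3, 2, 1, 2, 3, 6, 3, 2, 3, 2, 1, 2, 3, 6, 3, 2, 3, 2] d) d) = true := by decide +kernel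

theorem orbs51_ok : okOrbs table 7 hwR orb roots 102000 2000 = true := by decide +kernel

theorem zq51_ok : allFrom 102000 2000 (fun d => Nat.beq (runT table 7 [1, 2, 3, 6, 3, 2, 3, 2, 1, 2, 3, 6, 3, 2, 3, 2, 1, 2, 3, 6, 3, 2, 3, 2, 1, 2, 3, 6, 3, 2, 3, 2, 1, 2, 3, 6, 3, 2, 3, 2] d) d) = true := by decide +kernel

theorem orbs52_ok : okOrbs table 7 hwR orb roots 104000 2000 = true := by decide +kernel

theorem zq52_ok : allFrom 104000 2000 (fun d => Nat.beq (runT table 7 [1, 2, 3, 6, 3, 2, 3, 2, 1, 2, 3, 6, 3, 2, 3, 2, 1, 2, 3, 6, 3, 2, 3, 2, 1, 2, 3, 6, 3, 2, 3, 2, 1, 2, 3, 6, 3, 2, 3, 2] d) d) = true := by decide +kernel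

theorem orbs53_ok : okOrbs table 7 hwR orb roots 106000 2000 = true := by decide +kernel

theorem zq53_ok : allFrom 106000 2000 (fun d => Nat.beq (runT table 7 [1, 2, 3, 6, 3, 2, 3, 2, 1, 2, 3, 6, 3, 2, 3, 2, 1, 2, 3, 6, 3, 2, 3, 2, 1, 2, 3, 6, 3, 2, 3, 2, 1, 2, 3, 6, 3, 2, 3, 2] d) d) = true := by decide +kernel

theorem orbs54_ok : okOrbs table 7 hwR orb roots 108000 2000 = true := by decide +kernel

theorem zq54_ok : allFrom 108000 2000 (fun d => Nat.beq (runT table 7 [1, 2, 3, 6, 3, 2, 3, 2, 1, 2, 3, 6, 3, 2, 3, 2, 1, 2, 3, 6, 3, 2, 3, 2, 1, 2, 3, 6, 3, 2, 3, 2, 1, 2, 3, 6, 3, 2, 3, 2] d) d) = true := by decide +kernel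

theorem orbs55_ok : okOrbs table 7 hwR orb roots 110000 2000 = true := by decide +kernel

theorem zq55_ok : allFrom 110000 2000 (fun d => Nat.beq (runT table 7 [1, 2, 3, 6, 3, 2, 3, 2, 1, 2, 3, 6, 3, 2, 3, 2, 1, 2, 3, 6, 3, 2, 3, 2, 1, 2, 3, 6, 3, 2, 3, 2, 1, 2, 3, 6, 3, 2, 3, 2] d) d) = true := by decide +kernel

theorem orbs56_ok : okOrbs table 7 hwR orb roots 112000 2000 = true := by decide +kernel

theorem zq56_ok : allFrom 112000 2000 (fun d => Nat.beq (runT table 7 [1, 2, 3, 6, 3, 2, 3, 2, 1, 2, 3, 6, 3, 2, 3, 2, 1, 2, 3, 6, 3, 2, 3, 2, 1, 2, 3, 6, 3, 2, 3, 2, 1, 2, 3, 6, 3, 2, 3, 2] d) d) = true := by decide +kernel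

theorem orbs57_ok : okOrbs table 7 hwR orb roots 114000 2000 = true := by decide +kernel

theorem zq57_ok : allFrom 114000 2000 (fun d => Nat.beq (runT table 7 [1, 2, 3, 6, 3, 2, 3, 2, 1, 2, 3, 6, 3, 2, 3, 2, 1, 2, 3, 6, 3, 2, 3, 2, 1, 2, 3, 6, 3, 2, 3, 2, 1, 2, 3, 6, 3, 2, 3, 2] d) d) = true := by decide +kernel

theorem orbs58_ok : okOrbs table 7 hwR orb roots 116000 2000 = true := by decide +kernel

theorem zq58_ok : allFrom 116000 2000 (fun d => Nat.beq (runT table 7 [1, 2, 3, 6, 3, 2, 3, 2, 1, 2, 3, 6, 3, 2, 3, 2, 1, 2, 3, 6, 3, 2, 3, 2, 1, 2, 3, 6, 3, 2, 3, 2, 1, 2, 3, 6, 3, 2, 3, 2] d) d) = true := by decide +kernel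

theorem orbs59_ok : okOrbs table 7 hwR orb roots 118000 2000 = true := by decide +kernel

theorem zq59_ok : allFrom 118000 2000 (fun d => Nat.beq (runT table 7 [1, 2, 3, 6, 3, 2, 3, 2, 1, 2, 3, 6, 3, 2, 3, 2, 1, 2, 3, 6, 3, 2, 3, 2, 1, 2, 3, 6, 3, 2, 3, 2, 1, 2, 3, 6, 3, 2, 3, 2] d) d) = true := by decide +kernel

theorem orbs60_ok : okOrbs table 7 hwR orb roots 120000 2000 = true := by decide +kernel

theorem zq60_ok : allFrom 120000 2000 (fun d => Nat.beq (runT table 7 [1, 2, 3, 6, 3, 2, 3, 2, 1, 2, 3, 6, 3, 2, 3, 2, 1, 2, 3, 6, 3, 2, 3, 2, 1, 2, 3, 6, 3, 2, 3, 2, 1, 2, 3, 6, 3, 2, 3, 2] d) d) = true := by decide +kernel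

theorem orbs61_ok : okOrbs table 7 hwR orb roots 122000 760 = true := by decide +kernel

theorem zq61_ok : allFrom 122000 760 (fun d => Nat.beq (runT table 7 [1, 2, 3, 6, 3, 2, 3, 2, 1, 2, 3, 6, 3, 2, 3, 2, 1, 2, 3, 6, 3, 2, 3, 2, 1, 2, 3, 6, 3, 2, 3, 2, 1, 2, 3, 6, 3, 2, 3, 2] d) d) = true := by decide +kernel


end CfsgLib.CosetEnum.ONChain
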