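/-
Stabilisers and orbits in the representation on 122760 cosets.
-/
import Cfsg.Agent.Lib.CosetEnum.ONChain.Counts
import Cfsg.Agent.Lib.CosetEnum.ONChain.Orbs0
import Cfsg.Agent.Lib.CosetEnum.ONChain.Orbs1
import Cfsg.Agent.Lib.CosetEnum.ONChain.Orbs2
import Cfsg.Agent.Lib.CosetEnum.ONChain.Orbs3

set_option autoImplicit false
set_option maxRecDepth 1000000

namespace CfsgLib.CosetEnum.ONChain

open CfsgLib.CosetEnum CfsgLib.CosetEnum.ON122760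

theorem orbs : ∀ d < 122760, okOrb table 7 hwR orb roots d = true := by
  have h0 : ∀ d < 0, okOrb table 7 hwR orb roots d = true := fun d hd => absurd hd (Nat.not_lt_zero d)
  have h1 : ∀ d < 2000, okOrb table 7 hwR orb roots d = true := okOrbs_sound orbs0_ok h0
  have h2 : ∀ d < 4000, okOrb table 7 hwR orb roots d = true := okOrbs_sound orbs1_ok h1
  have h3 : ∀ d < 6000, okOrb table 7 hwR orb roots d = true := okOrbs_sound orbs2_ok h2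
  have h4 : ∀ d < 8000, okOrb table 7 hwR orb roots d = true := okOrbs_sound orbs3_ok h3
  have h5 : ∀ d < 10000, okOrb table 7 hwR orb roots d = true := okOrbs_sound orbs4_ok h4
  have h6 : ∀ d < 12000, okOrb table 7 hwR orb roots d = true := okOrbs_sound orbs5_ok h5
  have h7 : ∀ d < 14000, okOrb table 7 hwR orb roots d = true := okOrbs_sound orbs6_ok h6
  have h8 : ∀ d < 16000, okOrb table 7 hwR orb roots d = true := okOrbs_sound orbs7_ok h7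
  have h9 : ∀ d < 18000, okOrb table 7 hwR orb roots d = true := okOrbs_sound orbs8_ok h8
  have h10 : ∀ d < 20000, okOrb table 7 hwR orb roots d = true := okOrbs_sound orbs9_ok h9
  have h11 : ∀ d < 22000, okOrb table 7 hwR orb roots d = true := okOrbs_sound orbs10_ok h10
  have h12 : ∀ d < 24000, okOrb table 7 hwR orb roots d = true := okOrbs_sound orbs11_ok h11
  have h13 : ∀ d < 26000, okOrb table 7 hwR orb roots d = true := okOrbs_sound orbs12_ok h12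
  have h14 : ∀ d < 28000, okOrb table 7 hwR orb roots d = true := okOrbs_sound orbs13_ok h13
  have h15 : ∀ d < 30000, okOrb table 7 hwR orb roots d = true := okOrbs_sound orbs14_ok h14
  have h16 : ∀ d < 32000, okOrb table 7 hwR orb roots d = true := okOrbs_sound orbs15_ok h15
  have h17 : ∀ d < 34000, okOrb table 7 hwR orb roots d = true := okOrbs_sound orbs16_ok h16
  have h18 : ∀ d < 36000, okOrb table 7 hwR orb roots d = true := okOrbs_sound orbs17_ok h17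
  have h19 : ∀ d < 38000, okOrb table 7 hwR orb roots d = true := okOrbs_sound orbs18_ok h18
  have h20 : ∀ d < 40000, okOrb table 7 hwR orb roots d = true := okOrbs_sound orbs19_ok h19
  have h21 : ∀ d < 42000, okOrb table 7 hwR orb roots d = true := okOrbs_sound orbs20_ok h20
  have h22 : ∀ d < 44000, okOrb table 7 hwR orb roots d = true := okOrbs_sound orbs21_ok h21
  have h23 : ∀ d < 46000, okOrb table 7 hwR orb roots d = true := okOrbs_sound orbs22_ok h22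
  have h24 : ∀ d < 48000, okOrb table 7 hwR orb roots d = true := okOrbs_sound orbs23_ok h23
  have h25 : ∀ d < 50000, okOrb table 7 hwR orb roots d = true := okOrbs_sound orbs24_ok h24
  have h26 : ∀ d < 52000, okOrb table 7 hwR orb roots d = true := okOrbs_sound orbs25_ok h25
  have h27 : ∀ d < 54000, okOrb table 7 hwR orb roots d = true := okOrbs_sound orbs26_ok h26
  have h28 : ∀ d < 56000, okOrb table 7 hwR orb roots d = true := okOrbs_sound orbs27_ok h27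
  have h29 : ∀ d < 58000, okOrb table 7 hwR orb roots d = true := okOrbs_sound orbs28_ok h28
  have h30 : ∀ d < 60000, okOrb table 7 hwR orb roots d = true := okOrbs_sound orbs29_ok h29
  have h31 : ∀ d < 62000, okOrb table 7 hwR orb roots d = true := okOrbs_sound orbs30_ok h30
  have h32 : ∀ d < 64000, okOrb table 7 hwR orb roots d = true := okOrbs_sound orbs31_ok h31
  have h33 : ∀ d < 66000, okOrb table 7 hwR orb roots d = true := okOrbs_sound orbs32_ok h32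
  have h34 : ∀ d < 68000, okOrb table 7 hwR orb roots d = true := okOrbs_sound orbs33_ok h33
  have h35 : ∀ d < 70000, okOrb table 7 hwR orb roots d = true := okOrbs_sound orbs34_ok h34
  have h36 : ∀ d < 72000, okOrb table 7 hwR orb roots d = true := okOrbs_sound orbs35_ok h35
  have h37 : ∀ d < 74000, okOrb table 7 hwR orb roots d = true := okOrbs_sound orbs36_ok h36
  have h38 : ∀ d < 76000, okOrb table 7 hwR orb roots d = true := okOrbs_sound orbs37_ok h37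
  have h39 : ∀ d < 78000, okOrb table 7 hwR orb roots d = true := okOrbs_sound orbs38_ok h38
  have h40 : ∀ d < 80000, okOrb table 7 hwR orb roots d = true := okOrbs_sound orbs39_ok h39
  have h41 : ∀ d < 82000, okOrb table 7 hwR orb roots d = true := okOrbs_sound orbs40_ok h40
  have h42 : ∀ d < 84000, okOrb table 7 hwR orb roots d = true := okOrbs_sound orbs41_ok h41
  have h43 : ∀ d < 86000, okOrb table 7 hwR orb roots d = true := okOrbs_sound orbs42_ok h42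
  have h44 : ∀ d < 88000, okOrb table 7 hwR orb roots d = true := okOrbs_sound orbs43_ok h43
  have h45 : ∀ d < 90000, okOrb table 7 hwR orb roots d = true := okOrbs_sound orbs44_ok h44
  have h46 : ∀ d < 92000, okOrb table 7 hwR orb roots d = true := okOrbs_sound orbs45_ok h45
  have h47 : ∀ d < 94000, okOrb table 7 hwR orb roots d = true := okOrbs_sound orbs46_ok h46
  have h48 : ∀ d < 96000, okOrb table 7 hwR orb roots d = true := okOrbs_sound orbs47_ok h47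
  have h49 : ∀ d < 98000, okOrb table 7 hwR orb roots d = true := okOrbs_sound orbs48_ok h48
  have h50 : ∀ d < 100000, okOrb table 7 hwR orb roots d = true := okOrbs_sound orbs49_ok h49
  have h51 : ∀ d < 102000, okOrb table 7 hwR orb roots d = true := okOrbs_sound orbs50_ok h50
  have h52 : ∀ d < 104000, okOrb table 7 hwR orb roots d = true := okOrbs_sound orbs51_ok h51
  have h53 : ∀ d < 106000, okOrb table 7 hwR orb roots d = true := okOrbs_sound orbs52_ok h52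
  have h54 : ∀ d < 108000, okOrb table 7 hwR orb roots d = true := okOrbs_sound orbs53_ok h53
  have h55 : ∀ d < 110000, okOrb table 7 hwR orb roots d = true := okOrbs_sound orbs54_ok h54
  have h56 : ∀ d < 112000, okOrb table 7 hwR orb roots d = true := okOrbs_sound orbs55_ok h55
  have h57 : ∀ d < 114000, okOrb table 7 hwR orb roots d = true := okOrbs_sound orbs56_ok h56
  have h58 : ∀ d < 116000, okOrb table 7 hwR orb roots d = true := okOrbs_sound orbs57_ok h57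
  have h59 : ∀ d < 118000, okOrb table 7 hwR orb roots d = true := okOrbs_sound orbs58_ok h58
  have h60 : ∀ d < 120000, okOrb table 7 hwR orb roots d = true := okOrbs_sound orbs59_ok h59
  have h61 : ∀ d < 122000, okOrb table 7 hwR orb roots d = true := okOrbs_sound orbs60_ok h60
  have h62 : ∀ d < 122760, okOrb table 7 hwR orb roots d = true := okOrbs_sound orbs61_ok h61
  exact h62

theorem zq : ∀ d < 122760, Nat.beq (runT table 7 [1, 2, 3, 6, 3, 2, 3, 2, 1, 2, 3, 6, 3, 2, 3, 2, 1, 2, 3, 6, 3, 2, 3, 2, 1, 2, 3, 6, 3, 2, 3, 2, 1, 2, 3, 6, 3, 2, 3, 2] d) d = true := by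
  have h0 : ∀ d < 0, Nat.beq (runT table 7 [1, 2, 3, 6, 3, 2, 3, 2, 1, 2, 3, 6, 3, 2, 3, 2, 1, 2, 3, 6, 3, 2, 3, 2, 1, 2, 3, 6, 3, 2, 3, 2, 1, 2, 3, 6, 3, 2, 3, 2] d) d = true := fun d hd => absurd hd (Nat.not_lt_zero d)
  have h1 : ∀ d < 2000, Nat.beq (runT table 7 [1, 2, 3, 6, 3, 2, 3, 2, 1, 2, 3, 6, 3, 2, 3, 2, 1, 2, 3, 6, 3, 2, 3, 2, 1, 2, 3, 6, 3, 2, 3, 2, 1, 2, 3, 6, 3, 2, 3, 2] d) d = true := allFrom_step zq0_ok h0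
  have h2 : ∀ d < 4000, Nat.beq (runT table 7 [1, 2, 3, 6, 3, 2, 3, 2, 1, 2, 3, 6, 3, 2, 3, 2, 1, 2, 3, 6, 3, 2, 3, 2, 1, 2, 3, 6, 3, 2, 3, 2, 1, 2, 3, 6, 3, 2, 3, 2] d) d = true := allFrom_step zq1_ok h1
  have h3 : ∀ d < 6000, Nat.beq (runT table 7 [1, 2, 3, 6, 3, 2, 3, 2, 1, 2, 3, 6, 3, 2, 3, 2, 1, 2, 3, 6, 3, 2, 3, 2, 1, 2, 3, 6, 3, 2, 3, 2, 1, 2, 3, 6, 3, 2, 3, 2] d) d = true := allFrom_step zq2_ok h2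
  have h4 : ∀ d < 8000, Nat.beq (runT table 7 [1, 2, 3, 6, 3, 2, 3, 2, 1, 2, 3, 6, 3, 2, 3, 2, 1, 2, 3, 6, 3, 2, 3, 2, 1, 2, 3, 6, 3, 2, 3, 2, 1, 2, 3, 6, 3, 2, 3, 2] d) d = true := allFrom_step zq3_ok h3
  have h5 : ∀ d < 10000, Nat.beq (runT table 7 [1, 2, 3, 6, 3, 2, 3, 2, 1, 2, 3, 6, 3, 2, 3, 2, 1, 2, 3, 6, 3, 2, 3, 2, 1, 2, 3, 6, 3, 2, 3, 2, 1, 2, 3, 6, 3, 2, 3, 2] d) d = true := allFrom_step zq4_ok h4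
  have h6 : ∀ d < 12000, Nat.beq (runT table 7 [1, 2, 3, 6, 3, 2, 3, 2, 1, 2, 3, 6, 3, 2, 3, 2, 1, 2, 3, 6, 3, 2, 3, 2, 1, 2, 3, 6, 3, 2, 3, 2, 1, 2, 3, 6, 3, 2, 3, 2] d) d = true := allFrom_step zq5_ok h5
  have h7 : ∀ d < 14000, Nat.beq (runT table 7 [1, 2, 3, 6, 3, 2, 3, 2, 1, 2, 3, 6, 3, 2, 3, 2, 1, 2, 3, 6, 3, 2, 3, 2, 1, 2, 3, 6, 3, 2, 3, 2, 1, 2, 3, 6, 3, 2, 3, 2] d) d = true := allFrom_step zq6_ok h6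
  have h8 : ∀ d < 16000, Nat.beq (runT table 7 [1, 2, 3, 6, 3, 2, 3, 2, 1, 2, 3, 6, 3, 2, 3, 2, 1, 2, 3, 6, 3, 2, 3, 2, 1, 2, 3, 6, 3, 2, 3, 2, 1, 2, 3, 6, 3, 2, 3, 2] d) d = true := allFrom_step zq7_ok h7
  have h9 : ∀ d < 18000, Nat.beq (runT table 7 [1, 2, 3, 6, 3, 2, 3, 2, 1, 2, 3, 6, 3, 2, 3, 2, 1, 2, 3, 6, 3, 2, 3, 2, 1, 2, 3, 6, 3, 2, 3, 2, 1, 2, 3, 6, 3, 2, 3, 2] d) d = true := allFrom_step zq8_ok h8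
  have h10 : ∀ d < 20000, Nat.beq (runT table 7 [1, 2, 3, 6, 3, 2, 3, 2, 1, 2, 3, 6, 3, 2, 3, 2, 1, 2, 3, 6, 3, 2, 3, 2, 1, 2, 3, 6, 3, 2, 3, 2, 1, 2, 3, 6, 3, 2, 3, 2] d) d = true := allFrom_step zq9_ok h9
  have h11 : ∀ d < 22000, Nat.beq (runT table 7 [1, 2, 3, 6, 3, 2, 3, 2, 1, 2, 3, 6, 3, 2, 3, 2, 1, 2, 3, 6, 3, 2, 3, 2, 1, 2, 3, 6, 3, 2, 3, 2, 1, 2, 3, 6, 3, 2, 3, 2] d) d = true := allFrom_step zq10_ok h10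
  have h12 : ∀ d < 24000, Nat.beq (runT table 7 [1, 2, 3, 6, 3, 2, 3, 2, 1, 2, 3, 6, 3, 2, 3, 2, 1, 2, 3, 6, 3, 2, 3, 2, 1, 2, 3, 6, 3, 2, 3, 2, 1, 2, 3, 6, 3, 2, 3, 2] d) d = true := allFrom_step zq11_ok h11
  have h13 : ∀ d < 26000, Nat.beq (runT table 7 [1, 2, 3, 6, 3, 2, 3, 2, 1, 2, 3, 6, 3, 2, 3, 2, 1, 2, 3, 6, 3, 2, 3, 2, 1, 2, 3, 6, 3, 2, 3, 2, 1, 2, 3, 6, 3, 2, 3, 2] d) d = true := allFrom_step zq12_ok h12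
  have h14 : ∀ d < 28000, Nat.beq (runT table 7 [1, 2, 3, 6, 3, 2, 3, 2, 1, 2, 3, 6, 3, 2, 3, 2, 1, 2, 3, 6, 3, 2, 3, 2, 1, 2, 3, 6, 3, 2, 3, 2, 1, 2, 3, 6, 3, 2, 3, 2] d) d = true := allFrom_step zq13_ok h13
  have h15 : ∀ d < 30000, Nat.beq (runT table 7 [1, 2, 3, 6, 3, 2, 3, 2, 1, 2, 3, 6, 3, 2, 3, 2, 1, 2, 3, 6, 3, 2, 3, 2, 1, 2, 3, 6, 3, 2, 3, 2, 1, 2, 3, 6, 3, 2, 3, 2] d) d = true := allFrom_step zq14_ok h14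
  have h16 : ∀ d < 32000, Nat.beq (runT table 7 [1, 2, 3, 6, 3, 2, 3, 2, 1, 2, 3, 6, 3, 2, 3, 2, 1, 2, 3, 6, 3, 2, 3, 2, 1, 2, 3, 6, 3, 2, 3, 2, 1, 2, 3, 6, 3, 2, 3, 2] d) d = true := allFrom_step zq15_ok h15
  have h17 : ∀ d < 34000, Nat.beq (runT table 7 [1, 2, 3, 6, 3, 2, 3, 2, 1, 2, 3, 6, 3, 2, 3, 2, 1, 2, 3, 6, 3, 2, 3, 2, 1, 2, 3, 6, 3, 2, 3, 2, 1, 2, 3, 6, 3, 2, 3, 2] d) d = true := allFrom_step zq16_ok h16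
  have h18 : ∀ d < 36000, Nat.beq (runT table 7 [1, 2, 3, 6, 3, 2, 3, 2, 1, 2, 3, 6, 3, 2, 3, 2, 1, 2, 3, 6, 3, 2, 3, 2, 1, 2, 3, 6, 3, 2, 3, 2, 1, 2, 3, 6, 3, 2, 3, 2] d) d = true := allFrom_step zq17_ok h17
  have h19 : ∀ d < 38000, Nat.beq (runT table 7 [1, 2, 3, 6, 3, 2, 3, 2, 1, 2, 3, 6, 3, 2, 3, 2, 1, 2, 3, 6, 3, 2, 3, 2, 1, 2, 3, 6, 3, 2, 3, 2, 1, 2, 3, 6, 3, 2, 3, 2] d) d = true := allFrom_step zq18_ok h18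
  have h20 : ∀ d < 40000, Nat.beq (runT table 7 [1, 2, 3, 6, 3, 2, 3, 2, 1, 2, 3, 6, 3, 2, 3, 2, 1, 2, 3, 6, 3, 2, 3, 2, 1, 2, 3, 6, 3, 2, 3, 2, 1, 2, 3, 6, 3, 2, 3, 2] d) d = true := allFrom_step zq19_ok h19
  have h21 : ∀ d < 42000, Nat.beq (runT table 7 [1, 2, 3, 6, 3, 2, 3, 2, 1, 2, 3, 6, 3, 2, 3, 2, 1, 2, 3, 6, 3, 2, 3, 2, 1, 2, 3, 6, 3, 2, 3, 2, 1, 2, 3, 6, 3, 2, 3, 2] d) d = true := allFrom_step zq20_ok h20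
  have h22 : ∀ d < 44000, Nat.beq (runT table 7 [1, 2, 3, 6, 3, 2, 3, 2, 1, 2, 3, 6, 3, 2, 3, 2, 1, 2, 3, 6, 3, 2, 3, 2, 1, 2, 3, 6, 3, 2, 3, 2, 1, 2, 3, 6, 3, 2, 3, 2] d) d = true := allFrom_step zq21_ok h21
  have h23 : ∀ d < 46000, Nat.beq (runT table 7 [1, 2, 3, 6, 3, 2, 3, 2, 1, 2, 3, 6, 3, 2, 3, 2, 1, 2, 3, 6, 3, 2, 3, 2, 1, 2, 3, 6, 3, 2, 3, 2, 1, 2, 3, 6, 3, 2, 3, 2] d) d = true := allFrom_step zq22_ok h22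
  have h24 : ∀ d < 48000, Nat.beq (runT table 7 [1, 2, 3, 6, 3, 2, 3, 2, 1, 2, 3, 6, 3, 2, 3, 2, 1, 2, 3, 6, 3, 2, 3, 2, 1, 2, 3, 6, 3, 2, 3, 2, 1, 2, 3, 6, 3, 2, 3, 2] d) d = true := allFrom_step zq23_ok h23
  have h25 : ∀ d < 50000, Nat.beq (runT table 7 [1, 2, 3, 6, 3, 2, 3, 2, 1, 2, 3, 6, 3, 2, 3, 2, 1, 2, 3, 6, 3, 2, 3, 2, 1, 2, 3, 6, 3, 2, 3, 2, 1, 2, 3, 6, 3, 2, 3, 2] d) d = true := allFrom_step zq24_ok h24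
  have h26 : ∀ d < 52000, Nat.beq (runT table 7 [1, 2, 3, 6, 3, 2, 3, 2, 1, 2, 3, 6, 3, 2, 3, 2, 1, 2, 3, 6, 3, 2, 3, 2, 1, 2, 3, 6, 3, 2, 3, 2, 1, 2, 3, 6, 3, 2, 3, 2] d) d = true := allFrom_step zq25_ok h25
  have h27 : ∀ d < 54000, Nat.beq (runT table 7 [1, 2, 3, 6, 3, 2, 3, 2, 1, 2, 3, 6, 3, 2, 3, 2, 1, 2, 3, 6, 3, 2, 3, 2, 1, 2, 3, 6, 3, 2, 3, 2, 1, 2, 3, 6, 3, 2, 3, 2] d) d = true := allFrom_step zq26_ok h26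
  have h28 : ∀ d < 56000, Nat.beq (runT table 7 [1, 2, 3, 6, 3, 2, 3, 2, 1, 2, 3, 6, 3, 2, 3, 2, 1, 2, 3, 6, 3, 2, 3, 2, 1, 2, 3, 6, 3, 2, 3, 2, 1, 2, 3, 6, 3, 2, 3, 2] d) d = true := allFrom_step zq27_ok h27
  have h29 : ∀ d < 58000, Nat.beq (runT table 7 [1, 2, 3, 6, 3, 2, 3, 2, 1, 2, 3, 6, 3, 2, 3, 2, 1, 2, 3, 6, 3, 2, 3, 2, 1, 2, 3, 6, 3, 2, 3, 2, 1, 2, 3, 6, 3, 2, 3, 2] d) d = true := allFrom_step zq28_ok h28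
  have h30 : ∀ d < 60000, Nat.beq (runT table 7 [1, 2, 3, 6, 3, 2, 3, 2, 1, 2, 3, 6, 3, 2, 3, 2, 1, 2, 3, 6, 3, 2, 3, 2, 1, 2, 3, 6, 3, 2, 3, 2, 1, 2, 3, 6, 3, 2, 3, 2] d) d = true := allFrom_step zq29_ok h29
  have h31 : ∀ d < 62000, Nat.beq (runT table 7 [1, 2, 3, 6, 3, 2, 3, 2, 1, 2, 3, 6, 3, 2, 3, 2, 1, 2, 3, 6, 3, 2, 3, 2, 1, 2, 3, 6, 3, 2, 3, 2, 1, 2, 3, 6, 3, 2, 3, 2] d) d = true := allFrom_step zq30_ok h30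
  have h32 : ∀ d < 64000, Nat.beq (runT table 7 [1, 2, 3, 6, 3, 2, 3, 2, 1, 2, 3, 6, 3, 2, 3, 2, 1, 2, 3, 6, 3, 2, 3, 2, 1, 2, 3, 6, 3, 2, 3, 2, 1, 2, 3, 6, 3, 2, 3, 2] d) d = true := allFrom_step zq31_ok h31
  have h33 : ∀ d < 66000, Nat.beq (runT table 7 [1, 2, 3, 6, 3, 2, 3, 2, 1, 2, 3, 6, 3, 2, 3, 2, 1, 2, 3, 6, 3, 2, 3, 2, 1, 2, 3, 6, 3, 2, 3, 2, 1, 2, 3, 6, 3, 2, 3, 2] d) d = true := allFrom_step zq32_ok h32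
  have h34 : ∀ d < 68000, Nat.beq (runT table 7 [1, 2, 3, 6, 3, 2, 3, 2, 1, 2, 3, 6, 3, 2, 3, 2, 1, 2, 3, 6, 3, 2, 3, 2, 1, 2, 3, 6, 3, 2, 3, 2, 1, 2, 3, 6, 3, 2, 3, 2] d) d = true := allFrom_step zq33_ok h33
  have h35 : ∀ d < 70000, Nat.beq (runT table 7 [1, 2, 3, 6, 3, 2, 3, 2, 1, 2, 3, 6, 3, 2, 3, 2, 1, 2, 3, 6, 3, 2, 3, 2, 1, 2, 3, 6, 3, 2, 3, 2, 1, 2, 3, 6, 3, 2, 3, 2] d) d = true := allFrom_step zq34_ok h34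
  have h36 : ∀ d < 72000, Nat.beq (runT table 7 [1, 2, 3, 6, 3, 2, 3, 2, 1, 2, 3, 6, 3, 2, 3, 2, 1, 2, 3, 6, 3, 2, 3, 2, 1, 2, 3, 6, 3, 2, 3, 2, 1, 2, 3, 6, 3, 2, 3, 2] d) d = true := allFrom_step zq35_ok h35
  have h37 : ∀ d < 74000, Nat.beq (runT table 7 [1, 2, 3, 6, 3, 2, 3, 2, 1, 2, 3, 6, 3, 2, 3, 2, 1, 2, 3, 6, 3, 2, 3, 2, 1, 2, 3, 6, 3, 2, 3, 2, 1, 2, 3, 6, 3, 2, 3, 2] d) d = true := allFrom_step zq36_ok h36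
  have h38 : ∀ d < 76000, Nat.beq (runT table 7 [1, 2, 3, 6, 3, 2, 3, 2, 1, 2, 3, 6, 3, 2, 3, 2, 1, 2, 3, 6, 3, 2, 3, 2, 1, 2, 3, 6, 3, 2, 3, 2, 1, 2, 3, 6, 3, 2, 3, 2] d) d = true := allFrom_step zq37_ok h37
  have h39 : ∀ d < 78000, Nat.beq (runT table 7 [1, 2, 3, 6, 3, 2, 3, 2, 1, 2, 3, 6, 3, 2, 3, 2, 1, 2, 3, 6, 3, 2, 3, 2, 1, 2, 3, 6, 3, 2, 3, 2, 1, 2, 3, 6, 3, 2, 3, 2] d) d = true := allFrom_step zq38_ok h38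
  have h40 : ∀ d < 80000, Nat.beq (runT table 7 [1, 2, 3, 6, 3, 2, 3, 2, 1, 2, 3, 6, 3, 2, 3, 2, 1, 2, 3, 6, 3, 2, 3, 2, 1, 2, 3, 6, 3, 2, 3, 2, 1, 2, 3, 6, 3, 2, 3, 2] d) d = true := allFrom_step zq39_ok h39
  have h41 : ∀ d < 82000, Nat.beq (runT table 7 [1, 2, 3, 6, 3, 2, 3, 2, 1, 2, 3, 6, 3, 2, 3, 2, 1, 2, 3, 6, 3, 2, 3, 2, 1, 2, 3, 6, 3, 2, 3, 2, 1, 2, 3, 6, 3, 2, 3, 2] d) d = true := allFrom_step zq40_ok h40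
  have h42 : ∀ d < 84000, Nat.beq (runT table 7 [1, 2, 3, 6, 3, 2, 3, 2, 1, 2, 3, 6, 3, 2, 3, 2, 1, 2, 3, 6, 3, 2, 3, 2, 1, 2, 3, 6, 3, 2, 3, 2, 1, 2, 3, 6, 3, 2, 3, 2] d) d = true := allFrom_step zq41_ok h41
  have h43 : ∀ d < 86000, Nat.beq (runT table 7 [1, 2, 3, 6, 3, 2, 3, 2, 1, 2, 3, 6, 3, 2, 3, 2, 1, 2, 3, 6, 3, 2, 3, 2, 1, 2, 3, 6, 3, 2, 3, 2, 1, 2, 3, 6, 3, 2, 3, 2] d) d = true := allFrom_step zq42_ok h42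
  have h44 : ∀ d < 88000, Nat.beq (runT table 7 [1, 2, 3, 6, 3, 2, 3, 2, 1, 2, 3, 6, 3, 2, 3, 2, 1, 2, 3, 6, 3, 2, 3, 2, 1, 2, 3, 6, 3, 2, 3, 2, 1, 2, 3, 6, 3, 2, 3, 2] d) d = true := allFrom_step zq43_ok h43
  have h45 : ∀ d < 90000, Nat.beq (runT table 7 [1, 2, 3, 6, 3, 2, 3, 2, 1, 2, 3, 6, 3, 2, 3, 2, 1, 2, 3, 6, 3, 2, 3, 2, 1, 2, 3, 6, 3, 2, 3, 2, 1, 2, 3, 6, 3, 2, 3, 2] d) d = true := allFrom_step zq44_ok h44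
  have h46 : ∀ d < 92000, Nat.beq (runT table 7 [1, 2, 3, 6, 3, 2, 3, 2, 1, 2, 3, 6, 3, 2, 3, 2, 1, 2, 3, 6, 3, 2, 3, 2, 1, 2, 3, 6, 3, 2, 3, 2, 1, 2, 3, 6, 3, 2, 3, 2] d) d = true := allFrom_step zq45_ok h45
  have h47 : ∀ d < 94000, Nat.beq (runT table 7 [1, 2, 3, 6, 3, 2, 3, 2, 1, 2, 3, 6, 3, 2, 3, 2, 1, 2, 3, 6, 3, 2, 3, 2, 1, 2, 3, 6, 3, 2, 3, 2, 1, 2, 3, 6, 3, 2, 3, 2] d) d = true := allFrom_step zq46_ok h46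
  have h48 : ∀ d < 96000, Nat.beq (runT table 7 [1, 2, 3, 6, 3, 2, 3, 2, 1, 2, 3, 6, 3, 2, 3, 2, 1, 2, 3, 6, 3, 2, 3, 2, 1, 2, 3, 6, 3, 2, 3, 2, 1, 2, 3, 6, 3, 2, 3, 2] d) d = true := allFrom_step zq47_ok h47
  have h49 : ∀ d < 98000, Nat.beq (runT table 7 [1, 2, 3, 6, 3, 2, 3, 2, 1, 2, 3, 6, 3, 2, 3, 2, 1, 2, 3, 6, 3, 2, 3, 2, 1, 2, 3, 6, 3, 2, 3, 2, 1, 2, 3, 6, 3, 2, 3, 2] d) d = true := allFrom_step zq48_ok h48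
  have h50 : ∀ d < 100000, Nat.beq (runT table 7 [1, 2, 3, 6, 3, 2, 3, 2, 1, 2, 3, 6, 3, 2, 3, 2, 1, 2, 3, 6, 3, 2, 3, 2, 1, 2, 3, 6, 3, 2, 3, 2, 1, 2, 3, 6, 3, 2, 3, 2] d) d = true := allFrom_step zq49_ok h49
  have h51 : ∀ d < 102000, Nat.beq (runT table 7 [1, 2, 3, 6, 3, 2, 3, 2, 1, 2, 3, 6, 3, 2, 3, 2, 1, 2, 3, 6, 3, 2, 3, 2, 1, 2, 3, 6, 3, 2, 3, 2, 1, 2, 3, 6, 3, 2, 3, 2] d) d = true := allFrom_step zq50_ok h50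
  have h52 : ∀ d < 104000, Nat.beq (runT table 7 [1, 2, 3, 6, 3, 2, 3, 2, 1, 2, 3, 6, 3, 2, 3, 2, 1, 2, 3, 6, 3, 2, 3, 2, 1, 2, 3, 6, 3, 2, 3, 2, 1, 2, 3, 6, 3, 2, 3, 2] d) d = true := allFrom_step zq51_ok h51
  have h53 : ∀ d < 106000, Nat.beq (runT table 7 [1, 2, 3, 6, 3, 2, 3, 2, 1, 2, 3, 6, 3, 2, 3, 2, 1, 2, 3, 6, 3, 2, 3, 2, 1, 2, 3, 6, 3, 2, 3, 2, 1, 2, 3, 6, 3, 2, 3, 2] d) d = true := allFrom_step zq52_ok h52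
  have h54 : ∀ d < 108000, Nat.beq (runT table 7 [1, 2, 3, 6, 3, 2, 3, 2, 1, 2, 3, 6, 3, 2, 3, 2, 1, 2, 3, 6, 3, 2, 3, 2, 1, 2, 3, 6, 3, 2, 3, 2, 1, 2, 3, 6, 3, 2, 3, 2] d) d = true := allFrom_step zq53_ok h53
  have h55 : ∀ d < 110000, Nat.beq (runT table 7 [1, 2, 3, 6, 3, 2, 3, 2, 1, 2, 3, 6, 3, 2, 3, 2, 1, 2, 3, 6, 3, 2, 3, 2, 1, 2, 3, 6, 3, 2, 3, 2, 1, 2, 3, 6, 3, 2, 3, 2] d) d = true := allFrom_step zq54_ok h54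
  have h56 : ∀ d < 112000, Nat.beq (runT table 7 [1, 2, 3, 6, 3, 2, 3, 2, 1, 2, 3, 6, 3, 2, 3, 2, 1, 2, 3, 6, 3, 2, 3, 2, 1, 2, 3, 6, 3, 2, 3, 2, 1, 2, 3, 6, 3, 2, 3, 2] d) d = true := allFrom_step zq55_ok h55
  have h57 : ∀ d < 114000, Nat.beq (runT table 7 [1, 2, 3, 6, 3, 2, 3, 2, 1, 2, 3, 6, 3, 2, 3, 2, 1, 2, 3, 6, 3, 2, 3, 2, 1, 2, 3, 6, 3, 2, 3, 2, 1, 2, 3, 6, 3, 2, 3, 2] d) d = true := allFrom_step zq56_ok h56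
  have h58 : ∀ d < 116000, Nat.beq (runT table 7 [1, 2, 3, 6, 3, 2, 3, 2, 1, 2, 3, 6, 3, 2, 3, 2, 1, 2, 3, 6, 3, 2, 3, 2, 1, 2, 3, 6, 3, 2, 3, 2, 1, 2, 3, 6, 3, 2, 3, 2] d) d = true := allFrom_step zq57_ok h57
  have h59 : ∀ d < 118000, Nat.beq (runT table 7 [1, 2, 3, 6, 3, 2, 3, 2, 1, 2, 3, 6, 3, 2, 3, 2, 1, 2, 3, 6, 3, 2, 3, 2, 1, 2, 3, 6, 3, 2, 3, 2, 1, 2, 3, 6, 3, 2, 3, 2] d) d = true := allFrom_step zq58_ok h58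
  have h60 : ∀ d < 120000, Nat.beq (runT table 7 [1, 2, 3, 6, 3, 2, 3, 2, 1, 2, 3, 6, 3, 2, 3, 2, 1, 2, 3, 6, 3, 2, 3, 2, 1, 2, 3, 6, 3, 2, 3, 2, 1, 2, 3, 6, 3, 2, 3, 2] d) d = true := allFrom_step zq59_ok h59
  have h61 : ∀ d < 122000, Nat.beq (runT table 7 [1, 2, 3, 6, 3, 2, 3, 2, 1, 2, 3, 6, 3, 2, 3, 2, 1, 2, 3, 6, 3, 2, 3, 2, 1, 2, 3, 6, 3, 2, 3, 2, 1, 2, 3, 6, 3, 2, 3, 2] d) d = true := allFrom_step zq60_ok h60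
  have h62 : ∀ d < 122760, Nat.beq (runT table 7 [1, 2, 3, 6, 3, 2, 3, 2, 1, 2, 3, 6, 3, 2, 3, 2, 1, 2, 3, 6, 3, 2, 3, 2, 1, 2, 3, 6, 3, 2, 3, 2, 1, 2, 3, 6, 3, 2, 3, 2] d) d = true := allFrom_step zq61_ok h61
  exact h62

end CfsgLib.CosetEnum.ONChain
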